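import Mathlib
import Cfsg.Agent.OddCyclic.EmpA.Types
import Cfsg.Agent.OddCyclic.EmpF.Cyc

/-!
# (Empty), kills (3.4), (3.5): definitions

`Conf S R T`: two noncommuting lines with a nontrivial intersection. `X = C_G(R)`.

* `Out S R d` : the output of CLAIM C in `G`: `|V : V ⊓ O₂(P)| = q₀ = 2^d`, `|V ⊓ O₂(P) : R| = q₀²` for all `Par S R T P`
  with a witness, and elements of `N_G(V) ⊓ N_G(R)` of odd prime power order;
* `Fr S R T N P π TH A K d` : `N` a component piece of `X` moved by `V`, `P = N T`, `π : P → H = P/O₂(P)`, `K = π(N)`.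
-/

set_option autoImplicit false
set_option linter.unusedSectionVars false

namespace Cfsg.Agent.OddCyclic.EmpKill

open Subgroup Cfsg Cfsg.Agent.ZN Cfsg.Agent.ZN.ChoiceBase Cfsg.Agent.ZN.ChoiceSit
open Cfsg.Agent.MinSimple Cfsg.Agent.MinSimple.EmptyTI Cfsg.Agent.MinSimple.EmptySix
open Cfsg.Agent.OddCyclic.EmpFrame Cfsg.Agent.OddCyclic.EmpA
open Cfsg.Agent.OddCyclic.UniStruct (Cp Moves Pc)
open Cfsg.Agent.OddCyclic.KZeroCongr (KS)

universe u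

variable {G : Type u} [Group G] [Finite G]

/-- the output of CLAIM C in `G` -/
structure Out (S : Sylow 2 G) (R : Subgroup G) (d : ℕ) : Prop where
  pos : 1 ≤ d
  idx : ∀ {T P : Subgroup G} {k : G}, Par S R T P → Wit S P k →
    (dd (S : Subgroup G) P).relIndex (vv (S : Subgroup G)) = 2 ^ d
  quo : ∀ {T P : Subgroup G} {k : G}, Par S R T P → Wit S P k →
    R.relIndex (dd (S : Subgroup G) P) = (2 ^ d) ^ 2
  /-- `[D, E] ≠ 1` -/
  noncomm : ∀ {T P : Subgroup G} {k : G}, Par S R T P → Wit S P k →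
    ∃ a ∈ ee (S : Subgroup G) P k, ∃ v ∈ dd (S : Subgroup G) P, a * v ≠ v * a
  three : ∀ {T P : Subgroup G} {k : G}, Par S R T P → Wit S P k →
    ∃ g : G, g ∈ normalizer (vv (S : Subgroup G) : Set G) ∧ g ∈ normalizer (R : Set G) ∧ g ≠ 1 ∧
      (∃ n : ℕ, g ^ 3 ^ n = 1) ∧
      ((∃ r ∈ R, g * r * g⁻¹ ≠ r) ∨
        ((∀ v ∈ vv (S : Subgroup G), g * v * g⁻¹ * v⁻¹ ∈ dd (S : Subgroup G) P) ∧
          ∀ v ∈ dd (S : Subgroup G) P, g * v * g⁻¹ * v⁻¹ ∈ R → v ∈ R))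
  prim : ∀ l : ℕ, l.Prime → l ∣ 2 ^ d - 1 →
    ∃ g : G, g ∈ normalizer (vv (S : Subgroup G) : Set G) ∧ g ∈ normalizer (R : Set G) ∧
      (∃ n : ℕ, g ^ l ^ n = 1) ∧ ∃ r ∈ R, g * r * g⁻¹ ≠ r

/-- a component piece `N` of `C_G(R)` moved by `V`, `P = N T`, `π : P → H = P/O₂(P)`, `K = π(N)` -/
structure Fr (S : Sylow 2 G) (R T N P : Subgroup G) {H : Type u} [Group H] (π : P →* H) (TH : Sylow 2 H)
    (A K : Subgroup H) (d : ℕ) : Prop where
  ks : KS G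
  out : Out S R d
  quot : Quot S R T P π TH A
  cp : Cp (centralizer (R : Set G)) N
  mv : Moves (centralizer (R : Set G)) (vv (S : Subgroup G)) N
  P_eq : P = N ⊔ T
  K_eq : K = (N.subgroupOf P).map π
  norm : K.Normal
  simp : IsSimpleGroup K
  nab : ∃ x y : K, x * y ≠ y * x
  cent : centralizer (K : Set H) = ⊥
  top : K ⊔ (TH : Subgroup H) = ⊤
  /-- a 3-element of `N ⊓ N_G(V)` -/
  three : 3 ∣ Nat.card K → ∃ g ∈ N, g ∈ normalizer (vv (S : Subgroup G) : Set G) ∧ g ≠ 1 ∧ (∃ n : ℕ, g ^ 3 ^ n = 1) ∧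
    ∃ P' ≤ P, ∃ k : G, Par S R T P' ∧ Wit S P' k ∧
      (∀ v ∈ vv (S : Subgroup G), g * v * g⁻¹ * v⁻¹ ∈ dd (S : Subgroup G) P') ∧
      ∀ v ∈ dd (S : Subgroup G) P', g * v * g⁻¹ * v⁻¹ ∈ R → v ∈ R
  noprim : ∀ l : ℕ, l.Prime → l ∣ 2 ^ d - 1 → ¬ l ∣ Nat.card K

variable {S : Sylow 2 G} {R T P P' : Subgroup G}

theorem o2_anti (p : Par S R T P) (p' : Par S R T P') (h : P' ≤ P) : o2 P ≤ o2 P' :=
  Block.le_o2 (Block.o2_isPGroup _) (p.o2_le_T.trans p'.le) (h.trans (Block.le_normalizer_o2 _))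

theorem dd_anti (p : Par S R T P) (p' : Par S R T P') (h : P' ≤ P) :
    dd (S : Subgroup G) P ≤ dd (S : Subgroup G) P' := inf_le_inf le_rfl (o2_anti p p' h)

end Cfsg.Agent.OddCyclic.EmpKill
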