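import Mathlib
import Cfsg.Agent.OddCyclic.EmpKill.Defs
import Cfsg.Agent.OddCyclic.EmpC.Main
import Cfsg.Agent.OddCyclic.ClaimC.Six

/-!
# (Empty), kills (3.4), (3.5): the output of CLAIM C in `G`
-/

set_option autoImplicit false
set_option linter.unusedSectionVars false

namespace Cfsg.Agent.OddCyclic.EmpKill

open Subgroup Cfsg Cfsg.Agent.ZN Cfsg.Agent.ZN.ChoiceBase Cfsg.Agent.ZN.ChoiceSit
open Cfsg.Agent.MinSimple Cfsg.Agent.MinSimple.EmptyTI Cfsg.Agent.MinSimple.EmptySix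
open Cfsg.Agent.MinSimple.EmptyE.Closed (LL vv_comm vv_sq vv_mul_self vv_inv
  isPGroup_vv vv_le_jj vv_le jj_le_centralizer_vv conj_mem_vv cj_vv)
open Cfsg.Agent.OddCyclic.EmpFrame Cfsg.Agent.OddCyclic.EmpA
open Cfsg.Agent.OddCyclic.UniStruct (Cp Moves Pc)
open Cfsg.Agent.OddCyclic.KZeroCongr (KS)
open Cfsg.Agent.OddCyclic.RedRep (Rep)
open Cfsg.Agent.OddCyclic.T1Module Cfsg.Agent.OddCyclic.FFBasic
open Cfsg.Agent.OddCyclic.ClaimC.Alpha (Alpha)
open Cfsg.Agent.OddCyclic.EmpC (Beta)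

universe u

variable {G : Type u} [Group G] [Finite G] {S : Sylow 2 G} {R T P : Subgroup G} {k : G}

/-- an element of order `l` has a preimage of order a power of `l`, up to a power -/
theorem exists_lift {X H : Type*} [Group X] [Finite X] [Group H] {r : X →* H} (hr : Function.Surjective r) {l : ℕ}
    (hl : l.Prime) (x : H) : ∃ (y : X) (m : ℕ), (∃ n : ℕ, y ^ l ^ n = 1) ∧ ¬ l ∣ m ∧ r y = x ^ m := by
  obtain ⟨y, rfl⟩ := hr x
  obtain ⟨a, m, hm, hnm⟩ := Nat.exists_eq_pow_mul_and_not_dvd (orderOf_pos y).ne' l hl.ne_one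
  exact ⟨y ^ m, m, ⟨a, by rw [← pow_mul, mul_comm, ← hnm, pow_orderOf_eq_one]⟩, hm, map_pow _ _ _⟩

section Rep

variable {H W : Type u} [Group H] [CommGroup W] {r : LL (S : Subgroup G) →* H} {ρ : H →* MulAut W} {ι : W →* G}

theorem card_comap (hr : Rep (LL (S : Subgroup G)) (vv (S : Subgroup G)) r ρ ι) {N : Subgroup G}
    (hN : N ≤ vv (S : Subgroup G)) : Nat.card (N.comap ι) = Nat.card N := by
  rw [← card_map_of_injective hr.iinj, map_comap_eq, inf_eq_right.2 (hN.trans hr.range.ge)]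

theorem mem_normalizer_of (hr : Rep (LL (S : Subgroup G)) (vv (S : Subgroup G)) r ρ ι) {N : Subgroup G}
    (hN : N ≤ vv (S : Subgroup G)) (y : LL (S : Subgroup G)) (h : ∀ v ∈ N.comap ι, ρ (r y) v ∈ N.comap ι) :
    (y : G) ∈ normalizer (N : Set G) := by
  rw [mem_normalizer_iff_cj]
  refine eq_of_le_of_card_ge ?_ (card_cj _ _).ge
  rintro _ ⟨n, hn, rfl⟩
  obtain ⟨v, rfl⟩ := hr.exists_v (hN hn)
  have h1 := h v hn
  rw [mem_comap, hr.act] at h1
  exact h1

end Rep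

/-- the output of CLAIM C for `P`, `k` -/
theorem outcome (hK : KS G) (p : Par S R T P) (w : Wit S P k) : ∃ d, 1 ≤ d ∧
    (dd (S : Subgroup G) P).relIndex (vv (S : Subgroup G)) = 2 ^ d ∧
    R.relIndex (dd (S : Subgroup G) P) = (2 ^ d) ^ 2 ∧
    (∃ a ∈ ee (S : Subgroup G) P k, ∃ v ∈ dd (S : Subgroup G) P, a * v ≠ v * a) ∧
    (∃ g : G, g ∈ normalizer (vv (S : Subgroup G) : Set G) ∧ g ∈ normalizer (R : Set G) ∧ g ≠ 1 ∧
      (∃ n : ℕ, g ^ 3 ^ n = 1) ∧
      ((∃ r ∈ R, g * r * g⁻¹ ≠ r) ∨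
        ((∀ v ∈ vv (S : Subgroup G), g * v * g⁻¹ * v⁻¹ ∈ dd (S : Subgroup G) P) ∧
          ∀ v ∈ dd (S : Subgroup G) P, g * v * g⁻¹ * v⁻¹ ∈ R → v ∈ R))) ∧
    ∀ l : ℕ, l.Prime → l ∣ 2 ^ d - 1 →
      ∃ g : G, g ∈ normalizer (vv (S : Subgroup G) : Set G) ∧ g ∈ normalizer (R : Set G) ∧
        (∃ n : ℕ, g ^ l ^ n = 1) ∧ ∃ r ∈ R, g * r * g⁻¹ ≠ r := by
  obtain ⟨H, W, i1, i2, i3, i4, r, ρ, ι, TH, hr, hsq, -, hcyc, hkz, hcore, hnff, hbad⟩ := exists_act p.ens hK p.nff
  obtain ⟨c, d, hcfg⟩ := p.cfg w hr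
  obtain ⟨E, hE⟩ : ∃ E, E = ((ee (S : Subgroup G) P k).subgroupOf (LL (S : Subgroup G))).map r := ⟨_, rfl⟩
  rw [← hE] at hcfg
  obtain ⟨D', hD'⟩ : ∃ D', D' = (dd (S : Subgroup G) P).comap ι := ⟨_, rfl⟩
  obtain ⟨R', hR'⟩ : ∃ R', R' = R.comap ι := ⟨_, rfl⟩
  rw [← hD', ← hR'] at hcfg
  have hRV := p.toConf.R_le_vv
  have hDV : dd (S : Subgroup G) P ≤ vv (S : Subgroup G) := inf_le_left
  have hRD := p.R_le_dd
  have cR : Nat.card R' = Nat.card R := by rw [hR']; exact card_comap hr hRV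
  have cD : Nat.card D' = Nat.card (dd (S : Subgroup G) P) := by rw [hD']; exact card_comap hr hDV
  have cV : Nat.card W = Nat.card (vv (S : Subgroup G)) := (card_vv hr).symm
  have e1 : Nat.card (dd (S : Subgroup G) P) * (dd (S : Subgroup G) P).relIndex (vv (S : Subgroup G)) =
      Nat.card (vv (S : Subgroup G)) := by
    rw [← relIndex_bot_left, ← relIndex_bot_left (vv (S : Subgroup G))]
    exact relIndex_mul_relIndex _ _ _ bot_le hDV
  have e2 : Nat.card R * R.relIndex (dd (S : Subgroup G) P) = Nat.card (dd (S : Subgroup G) P) := by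
    rw [← relIndex_bot_left, ← relIndex_bot_left (dd (S : Subgroup G) P)]
    exact relIndex_mul_relIndex _ _ _ bot_le hRD
  have e3 : Nat.card D' * D'.index = Nat.card W := card_mul_index _
  have hRne : ∃ v ∈ R', v ≠ 1 := by
    obtain ⟨x, hx, hx1⟩ := (R.bot_or_exists_ne_one).resolve_left p.ne
    obtain ⟨v, rfl⟩ := hr.exists_v (hRV hx)
    exact ⟨v, by rw [hR']; exact hx, fun h0 => hx1 (by rw [h0, map_one])⟩
  -- the index
  have hidx : (dd (S : Subgroup G) P).relIndex (vv (S : Subgroup G)) = 2 ^ d := by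
    rw [cD, cV, ← e1] at e3
    rw [← Nat.eq_of_mul_eq_mul_left Nat.card_pos e3, hcfg.index]
  -- translation
  have hact : ∀ (x : LL (S : Subgroup G)) (v : W), ι (ρ (r x) v * v⁻¹) = x * ι v * (x : G)⁻¹ * (ι v)⁻¹ := by
    intro x v
    rw [map_mul, map_inv, hr.act]
  have hmoved : ∀ (y : LL (S : Subgroup G)) (v : W), v ∈ R' → ρ (r y) v ≠ v → ∃ s ∈ R, (y : G) * s * (y : G)⁻¹ ≠ s := by
    intro y v hv hne
    refine ⟨ι v, by rw [hR'] at hv; exact hv, fun h0 => hne (hr.iinj ?_)⟩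
    rw [hr.act, h0]
  have hnonc : ∃ a ∈ ee (S : Subgroup G) P k, ∃ v ∈ dd (S : Subgroup G) P, a * v ≠ v * a := by
    obtain ⟨v, hv, a, ha, hne⟩ := hcfg.nonquad hsq hnff
    rw [hE] at ha
    obtain ⟨x, hx, rfl⟩ := ha
    rw [hD'] at hv
    exact ⟨x, hx, ι v, hv, fun h0 => hne (hr.fix.2 h0)⟩
  -- `T'`-elements
  rcases EmpC.main_cases hcfg hbad hnff hsq hr.inj hcyc hkz hcore with ⟨L, hLn, hLs, hfw, F, i5, i6, i7, h4, ⟨e⟩⟩ | hb
  · obtain ⟨T', hα, -⟩ := ClaimC.Six.main hcfg hbad hnff hsq hr.inj h4 e hfw.faithA hfw.inn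
    have hgen : ∀ l : ℕ, l.Prime → l ∣ (2 ^ d) ^ 2 - 1 → ∃ (y : LL (S : Subgroup G)) (x : H), x ∈ T' ∧ x ≠ 1 ∧ x ^ l = 1 ∧
        r y = x ∧ (∃ n : ℕ, y ^ l ^ n = 1) ∧ (y : G) ∈ normalizer (R : Set G) := by
      intro l hl hld
      have hlf : Fact l.Prime := ⟨hl⟩
      rw [← hα.cardT] at hld
      obtain ⟨t, ht⟩ := exists_prime_orderOf_dvd_card' l hld
      have ht' : orderOf (t : H) = l := by rw [Subgroup.orderOf_coe]; exact ht
      obtain ⟨y, m, hy, hm, hym⟩ := exists_lift hr.surj hl (t : H)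
      have hxT : (t : H) ^ m ∈ T' := pow_mem t.2 m
      refine ⟨y, (t : H) ^ m, hxT, ?_, ?_, hym, hy, ?_⟩
      · intro h0
        apply hm
        rw [← ht']
        exact orderOf_dvd_of_pow_eq_one h0
      · rw [← pow_mul, mul_comm, pow_mul, ← ht', pow_orderOf_eq_one, one_pow]
      · refine mem_normalizer_of hr hRV y fun v hv => ?_
        rw [← hR'] at hv ⊢
        rw [hym]
        exact hα.TR _ hxT v hv
    have hD1 : Nat.card D' = (2 ^ d) ^ 3 := by
      have h1 : 0 < 2 ^ d := by positivity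
      have h2 : Nat.card D' * 2 ^ d = (2 ^ d) ^ 3 * 2 ^ d := by
        rw [hα.index, hα.cardV] at e3
        rw [e3]; ring
      exact Nat.eq_of_mul_eq_mul_right h1 h2
    have hpow : ∀ x : H, x ^ (2 ^ d - 1) = 1 → x ∈ T' → x ≠ 1 → ∃ v ∈ R', ρ x v ≠ v := by
      intro x hx hxT hx1
      obtain ⟨v, hv, hv1⟩ := hRne
      exact ⟨v, hv, fun h0 => hv1 (hα.minusR x hxT hx1 hx v hv h0)⟩
    have hdiv : ∀ {l n : ℕ} {x : H}, x ^ l = 1 → l ∣ n → x ^ n = 1 := by
      rintro l n x hx ⟨m, rfl⟩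
      rw [pow_mul, hx, one_pow]
    have hsub : (2 ^ d) ^ 2 - 1 = (2 ^ d + 1) * (2 ^ d - 1) := by
      have h1 : 1 ≤ 2 ^ d := Nat.one_le_two_pow
      obtain ⟨q, hq⟩ : ∃ q, 2 ^ d = q + 1 := ⟨2 ^ d - 1, by omega⟩
      rw [hq, Nat.add_sub_cancel]
      have e4 : (q + 1) ^ 2 = (q + 1 + 1) * q + 1 := by ring
      rw [e4, Nat.add_sub_cancel]
    refine ⟨d, hα.pos, hidx, ?_, hnonc, ?_, ?_⟩
    · have h1 : 0 < 2 ^ d := by positivity
      rw [← cR, ← cD, hα.cardR, hD1] at e2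
      have h2 : 2 ^ d * R.relIndex (dd (S : Subgroup G) P) = 2 ^ d * (2 ^ d) ^ 2 := by rw [e2]; ring
      exact Nat.eq_of_mul_eq_mul_left h1 h2
    · have h3 : 3 ∣ (2 ^ d + 1) * (2 ^ d - 1) := by
        have h4 : 2 ^ d % 3 = 1 ∨ 2 ^ d % 3 = 2 := by
          have h5 : ∀ n : ℕ, 2 ^ n % 3 = 1 ∨ 2 ^ n % 3 = 2 := by
            intro n
            induction n with
            | zero => left; norm_num
            | succ n ih => rw [pow_succ]; omega
          exact h5 d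
        have h1 : 1 ≤ 2 ^ d := Nat.one_le_two_pow
        rcases h4 with h4 | h4
        · exact dvd_mul_of_dvd_right (by omega) _
        · exact dvd_mul_of_dvd_left (by omega) _
      obtain ⟨y, x, hxT, hx1, hx3, hyx, ⟨n, hn⟩, hyR⟩ := hgen 3 Nat.prime_three (by rw [hsub]; exact h3)
      refine ⟨y, y.2, hyR, ?_, ⟨n, congrArg Subtype.val hn⟩, ?_⟩
      · intro h0
        apply hx1
        have h5 : y = 1 := Subtype.ext h0
        rw [← hyx, h5, map_one]
      · rcases (Nat.Prime.dvd_mul Nat.prime_three).1 h3 with h5 | h5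
        · right
          have hxp := hdiv hx3 h5
          constructor
          · intro v hv
            obtain ⟨v, rfl⟩ := hr.exists_v hv
            rw [← hact, hyx]
            have h6 := hα.plusD x hxT hxp v
            rw [hD'] at h6
            exact h6
          · intro v hv h6
            obtain ⟨v, rfl⟩ := hr.exists_v (hDV hv)
            rw [← hact, hyx] at h6
            have h7 := hα.plusDR x hxT hx1 hxp v (by rw [hD']; exact hv) (by rw [hR']; exact h6)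
            rw [hR'] at h7
            exact h7
        · left
          obtain ⟨v, hv, hne⟩ := hpow x (hdiv hx3 h5) hxT hx1
          rw [← hyx] at hne
          exact hmoved y v hv hne
    · intro l hl hld
      obtain ⟨y, x, hxT, hx1, hxl, hyx, ⟨n, hn⟩, hyR⟩ := hgen l hl (by rw [hsub]; exact dvd_mul_of_dvd_right hld _)
      obtain ⟨v, hv, hne⟩ := hpow x (hdiv hxl hld) hxT hx1
      rw [← hyx] at hne
      exact ⟨y, y.2, hyR, ⟨n, congrArg Subtype.val hn⟩, hmoved y v hv hne⟩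
  · -- (β')
    have hd : d = 1 := by
      have h1 := hcfg.index
      rw [hb.index] at h1
      have h2 : 2 ^ 1 = 2 ^ d := by rw [← h1, pow_one]
      exact (Nat.pow_right_injective le_rfl h2).symm
    refine ⟨d, hd.ge, hidx, ?_, hnonc, ?_, ?_⟩
    · have h1 := hcfg.card_D hsq
      rw [hb.card_E, cD, cR, ← e2, mul_comm 4] at h1
      rw [Nat.eq_of_mul_eq_mul_left Nat.card_pos h1, hd]
      norm_num
    · obtain ⟨K, -, -, -, -, x, -, hx3, hxN, s, hs, hxs⟩ := hb.ex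
      obtain ⟨y, m, ⟨n, hn⟩, hm, hym⟩ := exists_lift hr.surj Nat.prime_three x
      -- `x` is a power of `x ^ m`
      obtain ⟨j, hj⟩ : ∃ j : ℤ, x = (x ^ m) ^ j := by
        have h1 : (orderOf x).Coprime m := by rw [hx3]; exact (Nat.Prime.coprime_iff_not_dvd Nat.prime_three).2 hm
        obtain ⟨a, b, hab⟩ := (Nat.isCoprime_iff_coprime.2 h1 : IsCoprime ((orderOf x : ℕ) : ℤ) ((m : ℕ) : ℤ))
        refine ⟨b, ?_⟩
        calc x = x ^ (a * (orderOf x : ℤ) + b * ((m : ℕ) : ℤ)) := by rw [hab, zpow_one]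
          _ = (x ^ (orderOf x : ℤ)) ^ a * (x ^ ((m : ℕ) : ℤ)) ^ b := by
            rw [zpow_add, mul_comm a, mul_comm b, zpow_mul, zpow_mul]
          _ = (x ^ m) ^ b := by
            rw [zpow_natCast, pow_orderOf_eq_one, one_zpow, one_mul, zpow_natCast]
      have hRE : R' = CS ρ E := hb.eq.symm
      have hxmN : x ^ m ∈ normalizer (E : Set H) := pow_mem hxN m
      refine ⟨y, y.2, ?_, ?_, ⟨n, congrArg Subtype.val hn⟩, Or.inl ?_⟩
      · refine mem_normalizer_of hr hRV y fun v hv => ?_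
        rw [← hR', hRE] at hv ⊢
        rw [hym]
        intro a ha
        have h1 : (x ^ m)⁻¹ * a * (x ^ m) ∈ E := by
          have h2 := (mem_normalizer_iff.1 (inv_mem hxmN) a).1 ha
          rwa [inv_inv] at h2
        have h2 := hv _ h1
        have e4 : a * x ^ m = x ^ m * ((x ^ m)⁻¹ * a * (x ^ m)) := by group
        rw [← MulAut.mul_apply, ← map_mul, e4, map_mul, MulAut.mul_apply, h2]
      · intro h0
        have h5 : y = 1 := Subtype.ext h0
        rw [h5, map_one] at hym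
        apply hm
        rw [← hx3]
        exact orderOf_dvd_of_pow_eq_one hym.symm
      · by_contra hcon
        push Not at hcon
        have h1 : ρ (x ^ m) s = s := by
          rw [← hym]
          apply hr.iinj
          rw [hr.act]
          exact hcon _ (by rw [hR'] at hs; exact hs)
        apply hxs
        rw [hj]
        have h3 : (x ^ m) ^ j ∈ (MulAction.stabilizer (MulAut W) s).comap ρ := zpow_mem (show ρ (x ^ m) • s = s from h1) j
        exact h3
    · intro l hl hld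
      rw [hd] at hld
      exact absurd (Nat.dvd_one.1 (by simpa using hld)) hl.ne_one

/-- **the output of CLAIM C** -/
theorem exists_out (c : Conf S R T) (hK : KS G) : ∃ d, Out S R d := by
  obtain ⟨P, -, m⟩ := c.par.exists_mini
  obtain ⟨k, w⟩ := m.exists_wit hK
  obtain ⟨d, hd, h1, h2, -, -, h6⟩ := outcome hK m.toPar w
  have hRV : ∀ {T' P' : Subgroup G} (_ : Par S R T' P'), R.relIndex (dd (S : Subgroup G) P') *
      (dd (S : Subgroup G) P').relIndex (vv (S : Subgroup G)) = R.relIndex (vv (S : Subgroup G)) :=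
    fun p' => relIndex_mul_relIndex _ _ _ p'.R_le_dd inf_le_left
  have h0 := hRV m.toPar
  rw [h1, h2] at h0
  have key : ∀ {T' P' : Subgroup G} {k' : G} (p' : Par S R T' P') (w' : Wit S P' k') (d' : ℕ),
      (dd (S : Subgroup G) P').relIndex (vv (S : Subgroup G)) = 2 ^ d' →
      R.relIndex (dd (S : Subgroup G) P') = (2 ^ d') ^ 2 → d' = d := by
    intro T' P' k' p' w' d' h3 h4
    have h5 := hRV p'
    rw [h3, h4, ← h0] at h5
    have h7 : (2 ^ d') ^ 3 = (2 ^ d) ^ 3 := by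
      calc (2 ^ d') ^ 3 = (2 ^ d') ^ 2 * 2 ^ d' := by ring
        _ = _ := h5
        _ = (2 ^ d) ^ 3 := by ring
    exact Nat.pow_right_injective le_rfl (Nat.pow_left_injective (by norm_num) h7)
  refine ⟨d, hd, ?_, ?_, ?_, ?_, h6⟩
  · intro T' P' k' p' w'
    obtain ⟨d', -, h3, h4, -⟩ := outcome hK p' w'
    rw [h3, key p' w' d' h3 h4]
  · intro T' P' k' p' w'
    obtain ⟨d', -, h3, h4, -⟩ := outcome hK p' w'
    rw [h4, key p' w' d' h3 h4]
  · intro T' P' k' p' w'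
    obtain ⟨d', -, -, -, h5, -⟩ := outcome hK p' w'
    exact h5
  · intro T' P' k' p' w'
    obtain ⟨d', -, -, -, -, h5, -⟩ := outcome hK p' w'
    exact h5

end Cfsg.Agent.OddCyclic.EmpKill
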