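import Mathlib
import Cfsg.Agent.OddCyclic.EmpKill.Defs

/-!
# (Empty), kills: (n3)

`|V : V ⊓ O₂(P)| = 2`, `y ∈ P` of odd prime order `r` modulo `O₂(P)`, inverted by `v ∈ V` modulo `O₂(P)`: `r = 3`.
-/

set_option autoImplicit false
set_option linter.unusedSectionVars false

namespace Cfsg.Agent.OddCyclic.EmpKill

open Subgroup Cfsg Cfsg.Agent.ZN Cfsg.Agent.ZN.ChoiceBase Cfsg.Agent.ZN.ChoiceSit
open Cfsg.Agent.MinSimple Cfsg.Agent.MinSimple.EmptyTI Cfsg.Agent.MinSimple.EmptySix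
open Cfsg.Agent.MinSimple.EmptyE.Closed (LL vv_comm vv_sq vv_mul_self vv_inv
  isPGroup_vv vv_le_jj vv_le jj_le_centralizer_vv conj_mem_vv cj_vv)
open Cfsg.Agent.OddCyclic.EmpFrame Cfsg.Agent.OddCyclic.EmpA

universe u

variable {G : Type u} [Group G] [Finite G] {S : Sylow 2 G} {R T P : Subgroup G} {d r : ℕ} {y v : G}

/-- the situation of (n3) -/
structure Nt (S : Sylow 2 G) (R T P : Subgroup G) (y v : G) (r : ℕ) : Prop where
  par : Par S R T P
  prime : r.Prime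
  odd : r ≠ 2
  mem : y ∈ P
  pow : y ^ r ∈ o2 P
  not : y ∉ o2 P
  v_mem : v ∈ vv (S : Subgroup G)
  inv : v * y * v⁻¹ * y ∈ o2 P
  two : (dd (S : Subgroup G) P).relIndex (vv (S : Subgroup G)) = 2

namespace Nt

variable (t : Nt S R T P y v r)
include t

/-- the lines `V^{y^i}`, `V^{y^j}` do not commute -/
theorem not_comm (i j : ℤ) (hij : ¬ (r : ℤ) ∣ i - j) :
    ¬ cj (y ^ j) (vv (S : Subgroup G)) ≤ centralizer ((cj (y ^ i) (vv (S : Subgroup G)) : Subgroup G) : Set G) := by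
  intro hc
  obtain ⟨H, _, _, π, TH, A, q⟩ := t.par.exists_quot
  have h1 : y ^ i * v * (y ^ i)⁻¹ ∈ cj (y ^ i) (vv (S : Subgroup G)) := ⟨v, t.v_mem, rfl⟩
  have h2 : y ^ j * v * (y ^ j)⁻¹ ∈ cj (y ^ j) (vv (S : Subgroup G)) := ⟨v, t.v_mem, rfl⟩
  have h3 := mem_centralizer_iff.1 (hc h2) _ h1
  obtain ⟨y', hy'⟩ : ∃ y' : P, y' = ⟨y, t.mem⟩ := ⟨_, rfl⟩
  obtain ⟨v', hv'⟩ : ∃ v' : P, v' = ⟨v, t.par.vv_le t.v_mem⟩ := ⟨_, rfl⟩
  have h4 : (y' ^ i * v' * (y' ^ i)⁻¹) * (y' ^ j * v' * (y' ^ j)⁻¹) =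
      (y' ^ j * v' * (y' ^ j)⁻¹) * (y' ^ i * v' * (y' ^ i)⁻¹) := by
    apply Subtype.ext
    rw [hy', hv']
    exact h3
  obtain ⟨a, ha⟩ : ∃ a : H, a = π y' := ⟨_, rfl⟩
  obtain ⟨b, hb⟩ : ∃ b : H, b = π v' := ⟨_, rfl⟩
  have h5 := congrArg π h4
  simp only [map_mul, map_inv, map_zpow] at h5
  rw [← ha, ← hb] at h5
  have hbb : b * b = 1 := by
    have h6 : v' * v' = 1 := by rw [hv']; exact Subtype.ext (vv_mul_self t.v_mem)
    rw [hb, ← map_mul, h6, map_one]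
  have hinv : b * a * b⁻¹ = a⁻¹ := by
    have h6 : π (v' * y' * v'⁻¹ * y') = 1 := by
      rw [q.ker, hv', hy']
      exact t.inv
    rw [map_mul, map_mul, map_mul, map_inv, ← ha, ← hb] at h6
    exact eq_inv_of_mul_eq_one_left h6
  have hbi : b⁻¹ = b := inv_eq_of_mul_eq_one_left hbb
  have hinvz : ∀ n : ℤ, b * a ^ n = a ^ (-n) * b := by
    intro n
    have h6 : b * a ^ n * b⁻¹ = a ^ (-n) := by
      rw [← conj_zpow, hinv, inv_zpow, zpow_neg]
    rw [← h6, inv_mul_cancel_right]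
  have e1 : ∀ n : ℤ, a ^ n * b * (a ^ n)⁻¹ = a ^ (2 * n) * b := by
    intro n
    rw [← zpow_neg, mul_assoc, hinvz, neg_neg, ← mul_assoc, ← zpow_add, two_mul]
  have e2 : ∀ m n : ℤ, a ^ m * b * (a ^ n * b) = a ^ (m - n) := by
    intro m n
    calc a ^ m * b * (a ^ n * b) = a ^ m * (b * a ^ n) * b := by group
      _ = a ^ m * (a ^ (-n) * b) * b := by rw [hinvz]
      _ = a ^ m * a ^ (-n) * (b * b) := by group
      _ = a ^ (m - n) := by rw [hbb, mul_one, ← zpow_add, sub_eq_add_neg]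
  rw [e1, e1, e2, e2] at h5
  have h6 : a ^ (4 * (i - j)) = 1 := by
    have h7 : 4 * (i - j) = (2 * i - 2 * j) - (2 * j - 2 * i) := by ring
    rw [h7, zpow_sub, h5, mul_inv_cancel]
  have har : orderOf a = r := by
    have : Fact r.Prime := ⟨t.prime⟩
    apply orderOf_eq_prime
    · rw [ha, ← map_pow, q.ker, hy']
      exact t.pow
    · intro h0
      apply t.not
      have h7 := (q.ker y').1 (ha ▸ h0)
      rw [hy'] at h7
      exact h7
  have h7 : (r : ℤ) ∣ 4 * (i - j) := by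
    rw [← har]
    exact orderOf_dvd_iff_zpow_eq_one.2 h6
  have h8 : IsCoprime (r : ℤ) 4 := by
    have h9 : Nat.Coprime r 4 := by
      have h10 : Nat.Coprime r (2 ^ 2) := Nat.Coprime.pow_right 2
        ((Nat.coprime_primes t.prime Nat.prime_two).2 t.odd)
      exact h10
    exact_mod_cast Nat.isCoprime_iff_coprime.2 h9
  exact hij (h8.dvd_of_dvd_mul_left h7)

theorem zpow_mem' (i : ℤ) : y ^ i ∈ P := zpow_mem t.mem i

/-- `V^{y^i} ⊓ V^{y^j} = R` -/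
theorem inf_eq {i j : ℤ} (hij : ¬ (r : ℤ) ∣ i - j) :
    cj (y ^ i) (vv (S : Subgroup G)) ⊓ cj (y ^ j) (vv (S : Subgroup G)) = R :=
  t.par.toConf.inf_eq (t.not_comm i j hij) (t.par.R_le_cj (t.zpow_mem' i)) (t.par.R_le_cj (t.zpow_mem' j))

theorem not_two_dvd : ¬ (r : ℤ) ∣ 1 - (-1) := by
  intro h
  have h0 : (1 : ℤ) - (-1) = ((2 : ℕ) : ℤ) := by norm_num
  rw [h0] at h
  have h1 : r ∣ 2 := by exact_mod_cast h
  exact t.odd ((Nat.prime_dvd_prime_iff_eq t.prime Nat.prime_two).1 h1)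

/-- `V^{vy} = V^{y⁻¹}` -/
theorem cj_vy : cj (v * y) (vv (S : Subgroup G)) = cj (y ^ (-1 : ℤ)) (vv (S : Subgroup G)) := by
  have h1 : v ∈ normalizer (vv (S : Subgroup G) : Set G) := Subgroup.le_normalizer t.v_mem
  have e : v * y = (v * y * v⁻¹ * y) * (y ^ (-1 : ℤ)) * v := by
    rw [zpow_neg, zpow_one]; group
  rw [e, ← cj_cj, cj_eq_of_mem_normalizer h1, ← cj_cj]
  exact cj_eq_of_mem_normalizer (t.par.o2_normalizes (t.zpow_mem' (-1)) t.inv)

theorem v_not : v ∉ o2 P := by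
  intro hv
  have h1 : y * y ∈ o2 P := by
    have h2 : v * y * v⁻¹ * y = v * (y * v⁻¹ * y⁻¹) * (y * y) := by group
    have h3 := t.inv
    rw [h2] at h3
    have h4 : y * v⁻¹ * y⁻¹ ∈ o2 P := (mem_normalizer_iff.1 (Block.le_normalizer_o2 P t.mem) _).1 (inv_mem hv)
    exact (Subgroup.mul_mem_cancel_left _ (mul_mem hv h4)).1 h3
  apply t.not
  obtain ⟨m, hm⟩ := t.prime.odd_of_ne_two t.odd
  have h2 := t.pow
  rw [hm, pow_succ, pow_mul, pow_two] at h2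
  exact (Subgroup.mul_mem_cancel_left _ (pow_mem h1 m)).1 h2

/-- elements of `V` outside `O₂(P)` -/
theorem mul_inv_mem {w : G} (hw : w ∈ vv (S : Subgroup G)) (hwQ : w ∉ o2 P) : w * v⁻¹ ∈ o2 P := by
  have h1 := t.two
  rw [relIndex, index_eq_two_iff] at h1
  have h2 : (⟨w, hw⟩ : vv (S : Subgroup G)) * ⟨v, t.v_mem⟩⁻¹ ∈ (dd (S : Subgroup G) P).subgroupOf (vv (S : Subgroup G)) := by
    have h3 : ((dd (S : Subgroup G) P).subgroupOf (vv (S : Subgroup G))).index = 2 := t.two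
    rw [Subgroup.mul_mem_iff_of_index_two h3, inv_mem_iff, mem_subgroupOf, mem_subgroupOf]
    constructor
    · intro h; exact absurd h.2 hwQ
    · intro h; exact absurd h.2 t.v_not
  exact h2.2

theorem wit : Wit S P y where
  mem := t.mem
  ne := by
    intro w hw hwQ hc
    have h1 : cj (w * y) (vv (S : Subgroup G)) = cj (y ^ (-1 : ℤ)) (vv (S : Subgroup G)) := by
      have e : w * y = (w * v⁻¹) * (v * y) := by group
      rw [e, ← cj_cj, t.cj_vy]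
      exact cj_eq_of_mem_normalizer (t.par.o2_normalizes (t.zpow_mem' (-1)) (t.mul_inv_mem hw hwQ))
    rw [h1] at hc
    have h2 := t.not_comm 1 (-1) t.not_two_dvd
    rw [zpow_one] at h2
    exact h2 hc

/-- `D_i` -/
theorem dd_inf {i j : ℤ} (hij : ¬ (r : ℤ) ∣ i - j) :
    cj (y ^ i) (dd (S : Subgroup G) P) ⊓ cj (y ^ j) (dd (S : Subgroup G) P) = R := by
  apply le_antisymm
  · rw [← t.inf_eq hij]
    exact inf_le_inf (cj_mono _ inf_le_left) (cj_mono _ inf_le_left)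
  · have h1 : ∀ i : ℤ, R ≤ cj (y ^ i) (dd (S : Subgroup G) P) := fun i => by
      have h2 := cj_mono (y ^ i) t.par.R_le_dd
      rwa [t.par.cj_R (t.zpow_mem' i)] at h2
    exact le_inf (h1 i) (h1 j)

theorem dd_le_o2 (i : ℤ) : cj (y ^ i) (dd (S : Subgroup G) P) ≤ o2 P := by
  have h1 := cj_mono (y ^ i) (inf_le_right : dd (S : Subgroup G) P ≤ o2 P)
  rwa [t.par.cj_o2 (t.zpow_mem' i)] at h1

theorem o2_norm (i : ℤ) : o2 P ≤ normalizer ((cj (y ^ i) (dd (S : Subgroup G) P) : Subgroup G) : Set G) := by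
  rw [dd, cj_inf, t.par.cj_o2 (t.zpow_mem' i)]
  refine le_trans (le_inf (t.par.o2_normalizes (t.zpow_mem' i)) Subgroup.le_normalizer) ?_
  exact Subgroup.inf_normalizer_le_normalizer_inf

/-- `[D_i, D_j] ≤ R` -/
theorem comm_mem {i j : ℤ} (hij : ¬ (r : ℤ) ∣ i - j) {a b : G} (ha : a ∈ cj (y ^ i) (dd (S : Subgroup G) P))
    (hb : b ∈ cj (y ^ j) (dd (S : Subgroup G) P)) : a * b * a⁻¹ * b⁻¹ ∈ R := by
  rw [← t.dd_inf hij]
  refine mem_inf.2 ⟨?_, ?_⟩
  · have h1 := (mem_normalizer_iff.1 (t.o2_norm i (t.dd_le_o2 j hb)) a⁻¹).1 (inv_mem ha)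
    have e : a * b * a⁻¹ * b⁻¹ = a * (b * a⁻¹ * b⁻¹) := by group
    rw [e]
    exact mul_mem ha h1
  · have h1 := (mem_normalizer_iff.1 (t.o2_norm j (t.dd_le_o2 i ha)) b).1 hb
    exact mul_mem h1 (inv_mem hb)

/-- `W = D_0 D_1` -/
theorem dd_neg_le : cj (y ^ (-1 : ℤ)) (dd (S : Subgroup G) P) ≤
    dd (S : Subgroup G) P ⊔ cj y (dd (S : Subgroup G) P) := by
  obtain ⟨W, hW⟩ : ∃ W, W = dd (S : Subgroup G) P ⊔ cj y (dd (S : Subgroup G) P) := ⟨_, rfl⟩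
  rw [← hW]
  have h0 : dd (S : Subgroup G) P ≤ W := hW ▸ le_sup_left
  have h1 : cj y (dd (S : Subgroup G) P) ≤ W := hW ▸ le_sup_right
  have hQW : o2 P ≤ normalizer (W : Set G) := by
    have h2 := t.o2_norm 0
    have h3 := t.o2_norm 1
    rw [zpow_zero, cj_one] at h2
    rw [zpow_one] at h3
    intro q hq
    rw [mem_normalizer_iff_cj, hW]
    have h4 : cj q (dd (S : Subgroup G) P ⊔ cj y (dd (S : Subgroup G) P)) =
        cj q (dd (S : Subgroup G) P) ⊔ cj q (cj y (dd (S : Subgroup G) P)) := Subgroup.map_sup _ _ _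
    rw [h4, cj_eq_of_mem_normalizer (h2 hq), cj_eq_of_mem_normalizer (h3 hq)]
  rintro _ ⟨e, he, rfl⟩
  -- `b = y e y⁻¹ ∈ D_1`
  obtain ⟨b, hb⟩ : ∃ b, b = y * e * y⁻¹ := ⟨_, rfl⟩
  have hbD : b ∈ cj y (dd (S : Subgroup G) P) := ⟨e, he, hb.symm⟩
  have hbQ : b ∈ o2 P := by
    have h2 := t.dd_le_o2 1
    rw [zpow_one] at h2
    exact h2 hbD
  have hve : v * e = e * v := vv_comm t.v_mem he.1
  have h2 : v * b * v⁻¹ * b⁻¹ ∈ dd (S : Subgroup G) P := by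
    have h3 := t.par.comm_mem_dd t.v_mem hbQ
    have e1 : v * b * v⁻¹ * b⁻¹ = (b * v * b⁻¹ * v⁻¹)⁻¹ := by group
    rw [e1]
    exact inv_mem h3
  have h3 : v * b * v⁻¹ ∈ W := by
    have e1 : v * b * v⁻¹ = (v * b * v⁻¹ * b⁻¹) * b := by group
    rw [e1]
    exact mul_mem (h0 h2) (h1 hbD)
  have h4 := (mem_normalizer_iff.1 (hQW (inv_mem t.inv)) _).1 h3
  have e2 : (v * y * v⁻¹ * y)⁻¹ * (v * b * v⁻¹) * (v * y * v⁻¹ * y)⁻¹⁻¹ = y⁻¹ * (v * e * v⁻¹) * y := by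
    rw [hb]; group
  rw [e2, hve, mul_inv_cancel_right] at h4
  show y ^ (-1 : ℤ) * e * (y ^ (-1 : ℤ))⁻¹ ∈ W
  have e3 : y ^ (-1 : ℤ) * e * (y ^ (-1 : ℤ))⁻¹ = y⁻¹ * e * y := by group
  rw [e3]
  exact h4

theorem card_mul {i j : ℤ} (hij : ¬ (r : ℤ) ∣ i - j) :
    Nat.card (cj (y ^ i) (dd (S : Subgroup G) P) ⊔ cj (y ^ j) (dd (S : Subgroup G) P) : Subgroup G) * Nat.card R =
      Nat.card (dd (S : Subgroup G) P) * Nat.card (dd (S : Subgroup G) P) := by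
  have h1 := Block.card_sup_mul_card_inf (H := cj (y ^ i) (dd (S : Subgroup G) P))
    (N := cj (y ^ j) (dd (S : Subgroup G) P)) ((t.dd_le_o2 i).trans (t.o2_norm j))
  rwa [t.dd_inf hij, card_cj, card_cj] at h1

/-- `y` normalises `W = D_0 D_1` -/
theorem mem_norm : y ∈ normalizer ((dd (S : Subgroup G) P ⊔ cj y (dd (S : Subgroup G) P) : Subgroup G) : Set G) := by
  obtain ⟨W, hW⟩ : ∃ W, W = dd (S : Subgroup G) P ⊔ cj y (dd (S : Subgroup G) P) := ⟨_, rfl⟩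
  have hr1 : ¬ (r : ℤ) ∣ 0 - 1 := by
    intro h
    have h1 : (r : ℤ) ∣ ((1 : ℕ) : ℤ) := by
      have h2 := (dvd_neg (α := ℤ)).2 h
      simpa using h2
    exact t.prime.ne_one (Nat.dvd_one.1 (by exact_mod_cast h1))
  have hr2 : ¬ (r : ℤ) ∣ (-1) - 0 := by
    intro h
    exact hr1 (by simpa using h)
  have c1 := t.card_mul hr1
  have c2 := t.card_mul hr2
  rw [zpow_zero, cj_one, zpow_one, ← hW] at c1
  rw [zpow_zero, cj_one] at c2
  have h1 : cj (y ^ (-1 : ℤ)) (dd (S : Subgroup G) P) ⊔ dd (S : Subgroup G) P = W := by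
    refine eq_of_le_of_card_ge (sup_le (hW ▸ t.dd_neg_le) (hW ▸ le_sup_left)) ?_
    have h2 := c1.trans c2.symm
    exact (Nat.eq_of_mul_eq_mul_right Nat.card_pos h2).le
  rw [← hW, mem_normalizer_iff_cj]
  have h4 : cj y (cj (y ^ (-1 : ℤ)) (dd (S : Subgroup G) P) ⊔ dd (S : Subgroup G) P) =
      cj y (cj (y ^ (-1 : ℤ)) (dd (S : Subgroup G) P)) ⊔ cj y (dd (S : Subgroup G) P) := Subgroup.map_sup _ _ _
  rw [h1, cj_cj, zpow_neg, zpow_one, mul_inv_cancel, cj_one, ← hW] at h4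
  exact h4

/-- **(n3)** -/
theorem eq_three (o : Out S R d) : r = 3 := by
  obtain ⟨W, hW⟩ : ∃ W, W = dd (S : Subgroup G) P ⊔ cj y (dd (S : Subgroup G) P) := ⟨_, rfl⟩
  have hd : 2 ^ d = 2 := (o.idx t.par t.wit).symm.trans t.two
  have hq := o.quo t.par t.wit
  rw [hd] at hq
  have hcD : Nat.card (dd (S : Subgroup G) P) = 4 * Nat.card R := by
    have h1 := Block.card_mul_relIndex' t.par.R_le_dd
    rw [hq] at h1
    rw [← h1]; ring
  have hr1 : ¬ (r : ℤ) ∣ 0 - 1 := by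
    intro h
    have h1 : (r : ℤ) ∣ ((1 : ℕ) : ℤ) := by
      have h2 := (dvd_neg (α := ℤ)).2 h
      simpa using h2
    exact t.prime.ne_one (Nat.dvd_one.1 (by exact_mod_cast h1))
  have hcW : Nat.card W = 16 * Nat.card R := by
    have c1 := t.card_mul hr1
    rw [zpow_zero, cj_one, zpow_one, ← hW, hcD] at c1
    have h2 : Nat.card W * Nat.card R = 16 * Nat.card R * Nat.card R := by rw [c1]; ring
    exact Nat.eq_of_mul_eq_mul_right Nat.card_pos h2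
  have hyW : ∀ i : ℤ, y ^ i ∈ normalizer (W : Set G) := fun i => zpow_mem (hW ▸ t.mem_norm) i
  have hDW : ∀ i : ℤ, cj (y ^ i) (dd (S : Subgroup G) P) ≤ W := by
    intro i
    have h1 : dd (S : Subgroup G) P ≤ W := hW ▸ le_sup_left
    have h2 := cj_mono (y ^ i) h1
    rwa [cj_eq_of_mem_normalizer (hyW i)] at h2
  have hRD := t.par.R_le_dd
  have hRW : R ≤ W := hRD.trans (hW ▸ le_sup_left)
  -- counting
  let f : Fin r × ((dd (S : Subgroup G) P : Set G) \ (R : Set G) : Set G) → ((W : Set G) \ (R : Set G) : Set G) :=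
    fun p => ⟨y ^ ((p.1 : ℕ) : ℤ) * p.2 * (y ^ ((p.1 : ℕ) : ℤ))⁻¹, hDW _ ⟨p.2, p.2.2.1, rfl⟩, fun h => p.2.2.2 (by
      have h1 := t.par.cj_R (t.zpow_mem' ((p.1 : ℕ) : ℤ))
      have h2 : (y ^ ((p.1 : ℕ) : ℤ) * (p.2 : G) * (y ^ ((p.1 : ℕ) : ℤ))⁻¹) ∈ cj (y ^ ((p.1 : ℕ) : ℤ)) R := by
        rw [h1]; exact h
      rw [mem_cj] at h2
      have e : (y ^ ((p.1 : ℕ) : ℤ))⁻¹ * (y ^ ((p.1 : ℕ) : ℤ) * (p.2 : G) * (y ^ ((p.1 : ℕ) : ℤ))⁻¹) *
        y ^ ((p.1 : ℕ) : ℤ) = p.2 := by group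
      rw [e] at h2
      exact h2)⟩
  have hf : Function.Injective f := by
    rintro ⟨i, a⟩ ⟨j, b⟩ hab
    have h1 : y ^ ((i : ℕ) : ℤ) * a * (y ^ ((i : ℕ) : ℤ))⁻¹ = y ^ ((j : ℕ) : ℤ) * b * (y ^ ((j : ℕ) : ℤ))⁻¹ :=
      congrArg Subtype.val hab
    by_cases hij : i = j
    · subst hij
      have h2 : (a : G) = b := mul_left_cancel (mul_right_cancel h1)
      rw [Subtype.ext h2]
    · exfalso
      have h2 : ¬ (r : ℤ) ∣ ((i : ℕ) : ℤ) - ((j : ℕ) : ℤ) := by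
        intro h
        have h3 := Int.eq_zero_of_abs_lt_dvd h (by
          rw [abs_lt]
          have := i.2
          have := j.2
          constructor <;> omega)
        apply hij
        apply Fin.ext
        omega
      have h3 : (f (i, a) : G) ∈ R := (t.dd_inf h2).le
        (mem_inf.2 ⟨⟨a, a.2.1, rfl⟩, by rw [hab]; exact ⟨b, b.2.1, rfl⟩⟩)
      exact (f (i, a)).2.2 h3
  have hc1 : Nat.card ((dd (S : Subgroup G) P : Set G) \ (R : Set G) : Set G) = 3 * Nat.card R := by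
    rw [Nat.card_coe_set_eq, Set.ncard_sdiff hRD (Set.toFinite _), ← Nat.card_coe_set_eq, ← Nat.card_coe_set_eq]
    have h1 : Nat.card (dd (S : Subgroup G) P : Set G) = 4 * Nat.card R := hcD
    have h2 : Nat.card (R : Set G) = Nat.card R := rfl
    rw [h1, h2]; omega
  have hc2 : Nat.card ((W : Set G) \ (R : Set G) : Set G) = 15 * Nat.card R := by
    rw [Nat.card_coe_set_eq, Set.ncard_sdiff hRW (Set.toFinite _), ← Nat.card_coe_set_eq, ← Nat.card_coe_set_eq]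
    have h1 : Nat.card (W : Set G) = 16 * Nat.card R := hcW
    have h2 : Nat.card (R : Set G) = Nat.card R := rfl
    rw [h1, h2]; omega
  have hcle := Nat.card_le_card_of_injective f hf
  rw [Nat.card_prod, Nat.card_fin, hc1, hc2] at hcle
  have hRpos : 0 < Nat.card R := Nat.card_pos
  have hr5 : r ≤ 5 := by
    have h1 : 3 * r * Nat.card R ≤ 15 * Nat.card R := by
      calc 3 * r * Nat.card R = r * (3 * Nat.card R) := by ring
        _ ≤ _ := hcle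
    have h2 := Nat.le_of_mul_le_mul_right h1 hRpos
    omega
  have hr35 : r = 3 ∨ r = 5 := by
    have h1 := t.prime
    have h2 := t.odd
    interval_cases r <;> first | omega | (exfalso; revert h1; norm_num)
  rcases hr35 with h | h
  · exact h
  · exfalso
    -- all elements of `W` are involutions
    have hbij : Function.Bijective f := by
      refine (Nat.bijective_iff_injective_and_card f).2 ⟨hf, ?_⟩
      rw [Nat.card_prod, Nat.card_fin, hc1, hc2, h]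
      ring
    have hsq : ∀ w ∈ W, w * w = 1 := by
      intro w hw
      by_cases hwR : w ∈ R
      · exact vv_mul_self (t.par.toConf.R_le_vv hwR)
      · obtain ⟨⟨i, a⟩, hia⟩ := hbij.2 ⟨w, hw, hwR⟩
        have h1 : y ^ ((i : ℕ) : ℤ) * a * (y ^ ((i : ℕ) : ℤ))⁻¹ = w := congrArg Subtype.val hia
        have h2 : (a : G) * a = 1 := vv_mul_self a.2.1.1
        rw [← h1]
        calc _ = y ^ ((i : ℕ) : ℤ) * ((a : G) * a) * (y ^ ((i : ℕ) : ℤ))⁻¹ := by group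
          _ = 1 := by rw [h2]; group
    obtain ⟨a, ha, b, hb, hne⟩ := o.noncomm t.par t.wit
    apply hne
    have h1 : a ∈ W := by
      have h2 := hDW 1
      rw [zpow_one, t.par.cj_dd t.mem] at h2
      exact h2 ha
    have h3 : b ∈ W := by
      have h2 := hDW 0
      rw [zpow_zero, cj_one] at h2
      exact h2 hb
    exact comm_of_sq' hsq h1 h3

end Nt

end Cfsg.Agent.OddCyclic.EmpKill
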