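import Mathlib
import Cfsg.Agent.OddCyclic.EmpKill.Three

/-!
# (Empty), kills: solvable pieces

`Par S R T P`, `x ∈ P` of odd prime order `r` with `⟨x⟩O₂(P)` normal in `P`, moved by `V`. Then `q₀ = 2`, `r = 3` and
`P ⊓ N_G(V)` contains no 3-element.
-/

set_option autoImplicit false
set_option linter.unusedSectionVars false

namespace Cfsg.Agent.OddCyclic.EmpKill

open Subgroup Cfsg Cfsg.Agent.ZN Cfsg.Agent.ZN.ChoiceBase Cfsg.Agent.ZN.ChoiceSit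
open Cfsg.Agent.MinSimple Cfsg.Agent.MinSimple.EmptyTI Cfsg.Agent.MinSimple.EmptySix
open Cfsg.Agent.MinSimple.EmptyE.Closed (LL vv_comm vv_sq vv_mul_self vv_inv
  isPGroup_vv vv_le_jj vv_le jj_le_centralizer_vv conj_mem_vv cj_vv)
open Cfsg.Agent.OddCyclic.EmpFrame Cfsg.Agent.OddCyclic.EmpA
open Cfsg.Agent.OddCyclic.UniStruct (Cp Moves Pc RM NP NP_le_sup RM.dvd mem_of_normal NP_normal NP_le)

universe u

variable {G : Type u} [Group G] [Finite G] {S : Sylow 2 G} {R T P : Subgroup G} {d r : ℕ} {x g : G}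

/-- an element of 2-power order modulo a normal 2-subgroup and odd order is trivial -/
theorem eq_one_of_odd_two {H : Type*} [Group H] {h : H} {m n : ℕ} (hm : Odd m) (h1 : h ^ m = 1) (h2 : h ^ 2 ^ n = 1) :
    h = 1 := by
  have h3 : orderOf h ∣ m := orderOf_dvd_of_pow_eq_one h1
  have h4 : orderOf h ∣ 2 ^ n := orderOf_dvd_of_pow_eq_one h2
  exact orderOf_eq_one_iff.1 (Nat.eq_one_of_dvd_coprimes
    (Nat.Coprime.pow_right n (Nat.coprime_two_right.2 hm)) h3 h4)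

/-- a solvable piece moved by `V` -/
theorem rm_core (p : Par S R T P) (o : Out S R d) (hx : RM P r x)
    (hm : Moves P (vv (S : Subgroup G)) (NP P x)) : r = 3 ∧ ∀ g ∈ P,
    g ∈ normalizer (vv (S : Subgroup G) : Set G) → g ≠ 1 → (∃ n : ℕ, g ^ 3 ^ n = 1) → False := by
  obtain ⟨H, _, _, π, TH, A, q⟩ := p.exists_quot
  have hxP := hx.mem
  obtain ⟨x', hx'⟩ : ∃ x' : P, x' = ⟨x, hxP⟩ := ⟨_, rfl⟩
  obtain ⟨a, ha⟩ : ∃ a : H, a = π x' := ⟨_, rfl⟩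
  have hrodd : Odd r := hx.prime.odd_of_ne_two hx.odd
  have hxr : x ^ r = 1 := by rw [← hx.ord, pow_orderOf_eq_one]
  have hxQ : x ∉ o2 P := hx.not_two (Block.o2_isPGroup P)
  have har : orderOf a = r := by
    have : Fact r.Prime := ⟨hx.prime⟩
    apply orderOf_eq_prime
    · rw [ha, ← map_pow]
      have h1 : x' ^ r = 1 := by rw [hx']; exact Subtype.ext hxr
      rw [h1, map_one]
    · intro h0
      apply hxQ
      have h1 := (q.ker x').1 (ha ▸ h0)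
      rw [hx'] at h1
      exact h1
  -- elements of `⟨x⟩O₂(P)`
  have hsup : ∀ (n : P), (n : G) ∈ zpowers x ⊔ o2 P → π n ∈ zpowers a := by
    intro n hn
    have h1 : zpowers x ⊔ o2 P ≤ ((zpowers a).comap π).map P.subtype := by
      refine sup_le ?_ ?_
      · rw [zpowers_le]
        refine ⟨x', ?_, by rw [hx']; rfl⟩
        show π x' ∈ zpowers a
        rw [← ha]
        exact mem_zpowers a
      · intro y hy
        refine ⟨⟨y, ChoiceSit.o2_le _ hy⟩, ?_, rfl⟩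
        show π _ ∈ zpowers a
        rw [(q.ker _).2 hy]
        exact one_mem _
    obtain ⟨m, hm, hmn⟩ := h1 hn
    have h2 : m = n := Subtype.ext hmn
    rw [← h2]
    exact hm
  have hna : (zpowers a).Normal := by
    refine ⟨fun b hb h => ?_⟩
    obtain ⟨h, rfl⟩ := q.surj h
    obtain ⟨i, rfl⟩ := hb
    have h1 : π h * a * (π h)⁻¹ ∈ zpowers a := by
      have h2 := hsup (h * x' * h⁻¹) (by rw [hx']; exact hx.norm h h.2)
      rwa [map_mul, map_mul, map_inv, ← ha] at h2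
    show π h * a ^ i * (π h)⁻¹ ∈ zpowers a
    rw [← conj_zpow]
    exact zpow_mem h1 i
  have hCn : (centralizer (zpowers a : Set H)).Normal := inferInstance
  have hcent : ∀ {h : H}, h ∈ centralizer (zpowers a : Set H) ↔ h * a = a * h := by
    intro h
    rw [mem_centralizer_iff]
    constructor
    · intro h1
      exact (h1 a (mem_zpowers a)).symm
    · rintro h1 _ ⟨i, rfl⟩
      have h2 : Commute a h := h1.symm
      exact h2.zpow_left i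
  -- `C₀`
  obtain ⟨C₀, hC₀⟩ : ∃ C₀ : Subgroup G, C₀ = ((centralizer (zpowers a : Set H)).comap π).map P.subtype := ⟨_, rfl⟩
  have hC₀P : C₀ ≤ P := hC₀ ▸ map_subtype_le _
  have hC₀m : ∀ y : P, (y : G) ∈ C₀ ↔ π y * a = a * π y := by
    intro y
    rw [← hcent, hC₀]
    constructor
    · rintro ⟨z, hz, hzy⟩
      have h2 : z = y := Subtype.ext hzy
      rw [← h2]
      exact hz
    · intro h
      exact ⟨y, h, rfl⟩
  have hC₀n : P ≤ normalizer (C₀ : Set G) := by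
    refine Block.le_normalizer_of_forall ?_
    intro y hy c hc
    have hcP := hC₀P hc
    have h1 := (hC₀m ⟨c, hcP⟩).1 hc
    have h2 : π (⟨y, hy⟩ * ⟨c, hcP⟩ * ⟨y, hy⟩⁻¹) ∈ centralizer (zpowers a : Set H) := by
      rw [map_mul, map_mul, map_inv]
      exact hCn.conj_mem _ (hcent.2 h1) _
    exact (hC₀m (⟨y, hy⟩ * ⟨c, hcP⟩ * ⟨y, hy⟩⁻¹)).2 (hcent.1 h2)
  -- `P₁`
  obtain ⟨P₁, hP₁⟩ : ∃ P₁ : Subgroup G, P₁ = zpowers x ⊔ T := ⟨_, rfl⟩
  have hxP₁ : x ∈ P₁ := hP₁ ▸ mem_sup_left (mem_zpowers x)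
  have hTP₁ : T ≤ P₁ := hP₁ ▸ le_sup_right
  have hP₁P : P₁ ≤ P := hP₁ ▸ sup_le (zpowers_le.2 hxP) p.le
  have hQP₁ : o2 P ≤ o2 P₁ := Block.le_o2 (Block.o2_isPGroup _) (p.o2_le_T.trans hTP₁)
    (hP₁P.trans (Block.le_normalizer_o2 _))
  have hD₀ : T ⊓ C₀ ≤ o2 P₁ := by
    refine Block.le_o2 (p.syl.2.1.to_le inf_le_left) (inf_le_left.trans hTP₁) ?_
    rw [hP₁, sup_le_iff]
    constructor
    · have h1 : ∀ t ∈ T ⊓ C₀, x * t * x⁻¹ ∈ T ⊓ C₀ := by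
        rintro t ⟨ht, htC⟩
        refine mem_inf.2 ⟨?_, (mem_normalizer_iff.1 (hC₀n hxP) t).1 htC⟩
        have h2 := (hC₀m ⟨t, p.le ht⟩).1 htC
        have h3 : π (x' * ⟨t, p.le ht⟩ * x'⁻¹ * ⟨t, p.le ht⟩⁻¹) = 1 := by
          rw [map_mul, map_mul, map_mul, map_inv, map_inv, ← ha, ← h2]
          group
        have h4 := (q.ker _).1 h3
        rw [hx'] at h4
        have h5 : x * t * x⁻¹ * t⁻¹ ∈ o2 P := h4
        have e : x * t * x⁻¹ = x * t * x⁻¹ * t⁻¹ * t := by group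
        rw [e]
        exact mul_mem (p.o2_le_T h5) ht
      rw [zpowers_le]
      refine mem_normalizer_of_cj_le ?_
      rintro _ ⟨t, ht, rfl⟩
      exact h1 t ht
    · refine le_trans (le_inf Subgroup.le_normalizer (p.le.trans hC₀n)) ?_
      exact Subgroup.inf_normalizer_le_normalizer_inf
  -- elements of `V` in `O₂(P₁)` centralise `x`
  have hVC : ∀ v ∈ vv (S : Subgroup G), v ∈ o2 P₁ → v ∈ C₀ := by
    intro v hv hvo
    have hvP := p.vv_le hv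
    rw [show v = ((⟨v, hvP⟩ : P) : G) from rfl, hC₀m]
    have h1 : v * x * v⁻¹ * x⁻¹ ∈ o2 P₁ := by
      have e : v * x * v⁻¹ * x⁻¹ = v * (x * v⁻¹ * x⁻¹) := by group
      rw [e]
      exact mul_mem hvo ((mem_normalizer_iff.1 (Block.le_normalizer_o2 P₁ hxP₁) _).1 (inv_mem hvo))
    obtain ⟨n, hn⟩ := EmpTypes.pow_of_mem (Block.o2_isPGroup P₁) h1
    have h2 : π (⟨v, hvP⟩ * x' * ⟨v, hvP⟩⁻¹ * x'⁻¹) ∈ zpowers a := by
      rw [map_mul, map_mul, map_mul, map_inv, map_inv, ← ha]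
      exact mul_mem (hna.conj_mem a (mem_zpowers a) _) (inv_mem (mem_zpowers a))
    have h3 : π (⟨v, hvP⟩ * x' * ⟨v, hvP⟩⁻¹ * x'⁻¹) = 1 := by
      refine eq_one_of_odd_two hrodd (n := n) ?_ ?_
      · obtain ⟨i, hi⟩ := h2
        simp only at hi
        rw [← hi, ← zpow_natCast, ← zpow_mul, mul_comm, zpow_mul, zpow_natCast, ← har, pow_orderOf_eq_one, one_zpow]
      · rw [← map_pow]
        have h4 : (⟨v, hvP⟩ * x' * ⟨v, hvP⟩⁻¹ * x'⁻¹ : P) ^ 2 ^ n = 1 := by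
          rw [hx']
          exact Subtype.ext hn
        rw [h4, map_one]
    rw [map_mul, map_mul, map_mul, map_inv, map_inv, ← ha] at h3
    exact mul_inv_eq_iff_eq_mul.1 (mul_inv_eq_one.1 h3)
  have hinv : ∀ (v : G) (hv : v ∈ vv (S : Subgroup G)), v ∉ C₀ →
      π ⟨v, p.vv_le hv⟩ * a * (π ⟨v, p.vv_le hv⟩)⁻¹ = a⁻¹ := by
    intro v hv hvC
    have h0 : π ⟨v, p.vv_le hv⟩ * π ⟨v, p.vv_le hv⟩ = 1 := by
      have h2 : (⟨v, p.vv_le hv⟩ : P) * ⟨v, p.vv_le hv⟩ = 1 := Subtype.ext (vv_mul_self hv)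
      rw [← map_mul, h2, map_one]
    rcases FFRed.eq_or_inv hx.prime har h0 (hna.conj_mem a (mem_zpowers a) _) with h1 | h1
    · exfalso
      apply hvC
      exact (hC₀m ⟨v, p.vv_le hv⟩).2 h1
    · exact h1
  -- a moving element
  obtain ⟨v, hv, hvC⟩ : ∃ v ∈ vv (S : Subgroup G), v ∉ C₀ := by
    by_contra hcon
    push Not at hcon
    obtain ⟨v, hv, n, hn, hne⟩ := hm
    apply hne
    have hnP : n ∈ P := NP_le hxP hn
    have h1 := hsup ⟨n, hnP⟩ (NP_le_sup hx hn)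
    have h2 : π ⟨v, p.vv_le hv⟩ ∈ centralizer (zpowers a : Set H) :=
      hcent.2 ((hC₀m ⟨v, p.vv_le hv⟩).1 (hcon v hv))
    have h3 := mem_centralizer_iff.1 h2 _ h1
    have h4 : π (⟨v, p.vv_le hv⟩ * ⟨n, hnP⟩ * ⟨v, p.vv_le hv⟩⁻¹ * ⟨n, hnP⟩⁻¹) = 1 := by
      rw [map_mul, map_mul, map_mul, map_inv, map_inv, ← h3]
      group
    exact (q.ker _).1 h4
  have p₁ : Par S R T P₁ := { p.toConf with
    le := hTP₁
    leX := hP₁P.trans p.leX
    not := fun h0 => hvC (hVC v hv (h0 hv)) }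
  have hmemD : ∀ w ∈ vv (S : Subgroup G), w ∈ dd (S : Subgroup G) P₁ ↔ w ∈ C₀ := by
    intro w hw
    constructor
    · intro h; exact hVC w hw h.2
    · intro h; exact mem_inf.2 ⟨hw, hD₀ (mem_inf.2 ⟨p.toConf.vv_le_T hw, h⟩)⟩
  have h2 : (dd (S : Subgroup G) P₁).relIndex (vv (S : Subgroup G)) = 2 := by
    rw [relIndex, index_eq_two_iff]
    refine ⟨⟨v, hv⟩, fun b => ?_⟩
    rw [mem_subgroupOf, mem_subgroupOf, hmemD _ (b * ⟨v, hv⟩ : vv (S : Subgroup G)).2, hmemD _ b.2]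
    by_cases hb : (b : G) ∈ C₀
    · refine Or.inr ⟨hb, fun h3 => hvC ?_⟩
      have h4 := mul_mem (inv_mem hb) h3
      rwa [coe_mul, inv_mul_cancel_left] at h4
    · refine Or.inl ⟨?_, hb⟩
      have h3 := hinv b b.2 hb
      have h4 := hinv v hv hvC
      have h5 : ((b * ⟨v, hv⟩ : vv (S : Subgroup G)) : G) =
          ((⟨b, p.vv_le b.2⟩ * ⟨v, p.vv_le hv⟩ : P) : G) := rfl
      rw [h5, hC₀m, map_mul]
      obtain ⟨s, hs⟩ : ∃ s, s = π ⟨b, p.vv_le b.2⟩ := ⟨_, rfl⟩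
      obtain ⟨t, ht⟩ : ∃ t, t = π ⟨v, p.vv_le hv⟩ := ⟨_, rfl⟩
      rw [← hs] at h3 ⊢
      rw [← ht] at h4 ⊢
      have h6 : t * a = a⁻¹ * t := by rw [← h4]; group
      have h7 : s * a⁻¹ = a * s := by
        have h8 : s * a⁻¹ * s⁻¹ = a := by
          have h9 := congrArg (·⁻¹) h3
          simp only [mul_inv_rev, inv_inv] at h9
          rw [mul_assoc]; exact h9
        exact mul_inv_eq_iff_eq_mul.1 h8
      rw [mul_assoc, h6, ← mul_assoc, h7, mul_assoc]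
  have nt : Nt S R T P₁ x v r :=
    { par := p₁
      prime := hx.prime
      odd := hx.odd
      mem := hxP₁
      pow := by rw [hxr]; exact one_mem _
      not := hx.not_two (Block.o2_isPGroup P₁)
      v_mem := hv
      inv := by
        apply hQP₁
        have h3 : π (⟨v, p.vv_le hv⟩ * x' * ⟨v, p.vv_le hv⟩⁻¹ * x') = 1 := by
          rw [map_mul, map_mul, map_mul, map_inv, ← ha, hinv v hv hvC, inv_mul_cancel]
        have h4 := (q.ker _).1 h3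
        rw [hx'] at h4
        exact h4
      two := h2 }
  have hr3 : r = 3 := nt.eq_three o
  subst hr3
  refine ⟨rfl, fun g hgP hgV hg1 hg3 => ?_⟩
  -- the element of order 3
  obtain ⟨g₀, hg₀, hg₀3⟩ : ∃ g₀ ∈ zpowers g, orderOf g₀ = 3 := by
    obtain ⟨n, hn⟩ := hg3
    obtain ⟨j, hj, hjo⟩ := (Nat.dvd_prime_pow Nat.prime_three).1 (orderOf_dvd_of_pow_eq_one hn)
    have hj0 : j ≠ 0 := by
      rintro rfl
      rw [pow_zero, orderOf_eq_one_iff] at hjo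
      exact hg1 hjo
    obtain ⟨j', rfl⟩ := Nat.exists_eq_succ_of_ne_zero hj0
    refine ⟨g ^ 3 ^ j', pow_mem (mem_zpowers g) _, ?_⟩
    rw [orderOf_pow, hjo, Nat.gcd_eq_right (pow_dvd_pow 3 (Nat.le_succ j')), Nat.pow_div (Nat.le_succ j') (by norm_num)]
    simp
  have hg₀P : g₀ ∈ P := (zpowers_le.2 hgP) hg₀
  have hg₀V : g₀ ∈ normalizer (vv (S : Subgroup G) : Set G) := (zpowers_le.2 hgV) hg₀
  have h3 := mem_of_normal p.ens.hyp.cyc (NP_le hxP) (NP_normal P x) hx.prime hx.odd hx.dvd hg₀P hg₀3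
  have h4 := hsup ⟨g₀, hg₀P⟩ (NP_le_sup hx h3)
  obtain ⟨b, hb⟩ : ∃ b : H, b = π ⟨g₀, hg₀P⟩ := ⟨_, rfl⟩
  obtain ⟨t, ht⟩ : ∃ t : H, t = π ⟨v, p.vv_le hv⟩ := ⟨_, rfl⟩
  rw [← hb] at h4
  have h5 : t * b * t⁻¹ = b⁻¹ := by
    obtain ⟨i, hi⟩ := h4
    simp only at hi
    rw [← hi, ← conj_zpow, ht, hinv v hv hvC, inv_zpow]
  have h6 : v * g₀ * v⁻¹ * g₀⁻¹ ∈ vv (S : Subgroup G) := by
    have e : v * g₀ * v⁻¹ * g₀⁻¹ = v * (g₀ * v⁻¹ * g₀⁻¹) := by group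
    rw [e]
    exact mul_mem hv ((mem_normalizer_iff.1 hg₀V _).1 (inv_mem hv))
  have h7 := vv_mul_self h6
  have h8 : (⟨v, p.vv_le hv⟩ * ⟨g₀, hg₀P⟩ * ⟨v, p.vv_le hv⟩⁻¹ * ⟨g₀, hg₀P⟩⁻¹) *
      (⟨v, p.vv_le hv⟩ * ⟨g₀, hg₀P⟩ * ⟨v, p.vv_le hv⟩⁻¹ * ⟨g₀, hg₀P⟩⁻¹) = (1 : P) := Subtype.ext h7
  have h9 := congrArg π h8
  simp only [map_mul, map_inv, map_one] at h9
  rw [← hb, ← ht, h5] at h9
  have h10 : b ^ 3 = 1 := by
    rw [hb, ← map_pow]
    have h11 : (⟨g₀, hg₀P⟩ : P) ^ 3 = 1 := Subtype.ext (by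
      show g₀ ^ 3 = 1
      rw [← hg₀3, pow_orderOf_eq_one])
    rw [h11, map_one]
  have h11 : b = 1 := by
    have h12 : b ^ 4 = 1 := by
      have h13 : (b⁻¹ * b⁻¹ * (b⁻¹ * b⁻¹))⁻¹ = b ^ 4 := by
        rw [mul_inv_rev, mul_inv_rev, inv_inv, show (4 : ℕ) = 2 + 2 from rfl, pow_add, pow_two]
      rw [← h13, h9, inv_one]
    calc b = b ^ 4 * (b ^ 3)⁻¹ := by rw [pow_succ b 3]; group
      _ = 1 := by rw [h12, h10, inv_one, mul_one]
  have h12 : g₀ ∈ o2 P := (q.ker ⟨g₀, hg₀P⟩).1 (hb ▸ h11)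
  obtain ⟨n, hn⟩ := EmpTypes.pow_of_mem (Block.o2_isPGroup P) h12
  have h13 := eq_one_of_odd_two (m := 3) (by decide) (by rw [← hg₀3, pow_orderOf_eq_one]) hn
  rw [h13, orderOf_one] at hg₀3
  exact absurd hg₀3 (by norm_num)

theorem rm_false (p : Par S R T P) (o : Out S R d) (hx : RM P r x)
    (hm : Moves P (vv (S : Subgroup G)) (NP P x)) (hgP : g ∈ P)
    (hgV : g ∈ normalizer (vv (S : Subgroup G) : Set G)) (hg1 : g ≠ 1) (hg3 : ∃ n : ℕ, g ^ 3 ^ n = 1) : False :=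
  (rm_core p o hx hm).2 g hgP hgV hg1 hg3

end Cfsg.Agent.OddCyclic.EmpKill
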