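import Mathlib
import Cfsg.Agent.OddCyclic.EmpKill.RM
import Cfsg.Agent.OddCyclic.EmpKill.Out

/-!
# (Empty), kills: existence of the frame

`Conf S R T`: there is a frame `Fr S R T N P π TH A K d`.
-/

set_option autoImplicit false
set_option linter.unusedSectionVars false

namespace Cfsg.Agent.OddCyclic.EmpKill

open Subgroup Cfsg Cfsg.Agent.ZN Cfsg.Agent.ZN.ChoiceBase Cfsg.Agent.ZN.ChoiceSit
open Cfsg.Agent.MinSimple Cfsg.Agent.MinSimple.EmptyTI Cfsg.Agent.MinSimple.EmptySix
open Cfsg.Agent.MinSimple.EmptyE.Closed (LL vv_comm vv_sq vv_mul_self vv_inv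
  isPGroup_vv vv_le_jj vv_le jj_le_centralizer_vv conj_mem_vv cj_vv)
open Cfsg.Agent.OddCyclic.EmpFrame Cfsg.Agent.OddCyclic.EmpA
open Cfsg.Agent.OddCyclic.UniStruct (Cp Moves Pc RM NP NP_le_sup RM.dvd mem_of_normal NP_normal NP_le exists_pc)
open Cfsg.Agent.OddCyclic.KZeroCongr (KS)

universe u

variable {G : Type u} [Group G] [Finite G] {S : Sylow 2 G} {R T : Subgroup G} {d : ℕ}

theorem Conf.o2_ne (c : Conf S R T) : o2 (centralizer (R : Set G)) ≠ ⊥ := by
  intro h0
  have h1 := c.par.R_le_o2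
  rw [h0, le_bot_iff] at h1
  exact c.ne h1

/-- `N_G(R)` normalises the pieces of `C_G(R)` -/
theorem Conf.norm_pc (c : Conf S R T) {N : Subgroup G} (hN : Pc (centralizer (R : Set G)) N) :
    normalizer (R : Set G) ≤ normalizer (N : Set G) := by
  intro y hy
  rw [mem_normalizer_iff_cj]
  refine hN.uniq c.ens.hyp (Conf.o2_ne c) ?_
  rw [cj_centralizer, cj_eq_of_mem_normalizer hy]
  exact hN.le

/-- an odd prime power element has an element of prime order -/
theorem exists_order {H : Type*} [Group H] [Finite H] {g : H} {l : ℕ} (hl : l.Prime) (hg1 : g ≠ 1) (hg : ∃ n : ℕ, g ^ l ^ n = 1) :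
    ∃ g₀ ∈ zpowers g, orderOf g₀ = l := by
  obtain ⟨n, hn⟩ := hg
  obtain ⟨j, hj, hjo⟩ := (Nat.dvd_prime_pow hl).1 (orderOf_dvd_of_pow_eq_one hn)
  have hj0 : j ≠ 0 := by
    rintro rfl
    rw [pow_zero, orderOf_eq_one_iff] at hjo
    exact hg1 hjo
  obtain ⟨j', rfl⟩ := Nat.exists_eq_succ_of_ne_zero hj0
  refine ⟨g ^ l ^ j', pow_mem (mem_zpowers g) _, ?_⟩
  rw [orderOf_pow, hjo, Nat.gcd_eq_right (pow_dvd_pow l (Nat.le_succ j')), Nat.pow_div (Nat.le_succ j') hl.pos]
  simp

/-- **existence of the frame** -/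
theorem exists_fr (c : Conf S R T) (hK : KS G) (o : Out S R d) :
    ∃ (N P : Subgroup G) (H : Type u) (_ : Group H) (_ : Finite H) (π : P →* H) (TH : Sylow 2 H) (A K : Subgroup H),
      Fr S R T N P π TH A K d := by
  obtain ⟨N, hN, hmv⟩ := exists_pc c.ens.hyp (Conf.o2_ne c) isPGroup_vv c.par.vv_le c.not_le_o2
  have hYN := Conf.norm_pc c hN
  have hNX : N ≤ centralizer (R : Set G) := hN.le
  have hXY : centralizer (R : Set G) ≤ normalizer (R : Set G) := centralizer_le_normalizer _
  -- elements of `N` centralise `R`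
  have hNR : ∀ {g : G}, g ∈ N → ∀ r ∈ R, g * r * g⁻¹ = r := by
    intro g hg r hr
    rw [c.R_comm (hNX hg) hr, mul_inv_cancel_right]
  rcases hN with hN | ⟨r, x, hx, rfl⟩
  swap
  · -- solvable pieces
    exfalso
    obtain ⟨hr3, hno⟩ := rm_core c.par o hx hmv
    subst hr3
    obtain ⟨P', -, m⟩ := c.par.exists_mini
    obtain ⟨k, w⟩ := m.exists_wit hK
    obtain ⟨g, hgV, hgR, hg1, hg3, -⟩ := o.three m.toPar w
    obtain ⟨g₀, hg₀, hg₀3⟩ := exists_order Nat.prime_three hg1 hg3
    have h1 := mem_of_normal c.ens.hyp.cyc (hNX.trans hXY) hYN Nat.prime_three (by norm_num) hx.dvd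
      ((zpowers_le.2 hgR) hg₀) hg₀3
    refine hno g₀ (hNX h1) ((zpowers_le.2 hgV) hg₀) ?_ ⟨1, ?_⟩
    · rintro rfl
      rw [orderOf_one] at hg₀3
      exact absurd hg₀3 (by norm_num)
    · rw [pow_one, ← hg₀3, pow_orderOf_eq_one]
  · -- (CYC)
    have hcyc : ∀ {l : ℕ}, l.Prime → l ≠ 2 → l ∣ Nat.card N → ∀ g ∈ normalizer (R : Set G), (∃ n : ℕ, g ^ l ^ n = 1) →
        g ∈ N := by
      intro l hl hl2 hlN g hg hgl
      have h1 : (N.subgroupOf (normalizer (R : Set G))).Normal := normal_subgroupOf_of_le_normalizer hYN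
      have h2 : ⁅N.subgroupOf (normalizer (R : Set G)), N.subgroupOf (normalizer (R : Set G))⁆ =
          N.subgroupOf (normalizer (R : Set G)) := by
        apply Subgroup.map_injective (subtype_injective (normalizer (R : Set G)))
        rw [Subgroup.map_commutator, subgroupOf_map_subtype, inf_eq_left.2 (hNX.trans hXY), hN.perf]
      have h3 := EmpF.mem_of_perfect (CompBasic.oddCyc_subgroup c.ens.hyp.cyc _) h1 h2 hl hl2
        (by rwa [Nat.card_congr (Subgroup.subgroupOfEquivOfLe (hNX.trans hXY)).toEquiv])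
        (x := (⟨g, hg⟩ : normalizer (R : Set G))) (by
          obtain ⟨n, hn⟩ := hgl
          exact ⟨n, Subtype.ext hn⟩)
      exact h3
    obtain ⟨P, hP⟩ : ∃ P : Subgroup G, P = N ⊔ T := ⟨_, rfl⟩
    have hNP : N ≤ P := hP ▸ le_sup_left
    have hTP : T ≤ P := hP ▸ le_sup_right
    have hPX : P ≤ centralizer (R : Set G) := hP ▸ sup_le hNX c.T_le_cent
    have hPN : P ≤ normalizer (N : Set G) := (hPX.trans hXY).trans hYN
    -- `O₂(N) ≤ O₂(X)`
    have hoN : o2 N ≤ o2 (centralizer (R : Set G)) := by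
      refine Block.le_o2 (Block.o2_isPGroup N) ((ChoiceSit.o2_le _).trans hNX) ?_
      intro y hy
      rw [mem_normalizer_iff_cj, ← o2_cj, cj_eq_of_mem_normalizer (hN.norm hy)]
    have hoP : o2 P ⊓ N ≤ o2 N := by
      refine Block.le_o2 ((Block.o2_isPGroup P).to_le inf_le_left) inf_le_right ?_
      refine le_trans (le_inf (hNP.trans (Block.le_normalizer_o2 P)) Subgroup.le_normalizer) ?_
      exact Subgroup.inf_normalizer_le_normalizer_inf
    have p : Par S R T P := { c with
      le := hTP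
      leX := hPX
      not := by
        intro h0
        obtain ⟨v, hv, n, hn, hne⟩ := hmv
        apply hne
        apply hoN
        apply hoP
        have hvN : v ∈ normalizer (N : Set G) := hPN (hTP (c.vv_le_T hv))
        refine mem_inf.2 ⟨?_, mul_mem ((mem_normalizer_iff.1 hvN n).1 hn) (inv_mem hn)⟩
        have e : v * n * v⁻¹ * n⁻¹ = v * (n * v⁻¹ * n⁻¹) := by group
        rw [e]
        exact mul_mem (h0 hv) ((mem_normalizer_iff.1 (Block.le_normalizer_o2 P (hNP hn)) _).1 (inv_mem (h0 hv))) }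
    obtain ⟨H, _, _, π, TH, A, q⟩ := p.exists_quot
    obtain ⟨K, hKe⟩ : ∃ K : Subgroup H, K = (N.subgroupOf P).map π := ⟨_, rfl⟩
    have hKn : K.Normal := by
      have h1 : (N.subgroupOf P).Normal := normal_subgroupOf_of_le_normalizer hPN
      rw [hKe]
      exact h1.map π q.surj
    -- `φ : N → K`
    have hφm : ∀ n : N, π ⟨n, hNP n.2⟩ ∈ K := fun n => by
      rw [hKe]
      exact ⟨_, mem_subgroupOf.2 n.2, rfl⟩
    let φ : N →* K := (π.comp (inclusion hNP)).codRestrict K hφm
    have hφ : Function.Surjective φ := by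
      rintro ⟨y, hy⟩
      have h1 := hy
      rw [hKe] at h1
      obtain ⟨n, hn, rfl⟩ := h1
      exact ⟨⟨n, mem_subgroupOf.1 hn⟩, rfl⟩
    have hφk : φ.ker = pCore 2 N := by
      ext n
      rw [MonoidHom.mem_ker]
      have h1 : φ n = 1 ↔ π ⟨n, hNP n.2⟩ = 1 := Subtype.ext_iff
      rw [h1, q.ker]
      constructor
      · intro h2
        obtain ⟨m, hm, hmn⟩ := hoP (mem_inf.2 ⟨h2, n.2⟩)
        have h3 : m = n := Subtype.ext hmn
        rwa [← h3]
      · intro h2
        have h3 : (n : G) ∈ o2 N := ⟨n, h2, rfl⟩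
        exact o2_anti c.par p hPX (hoN h3)
    have e : (N ⧸ pCore 2 N) ≃* K :=
      (QuotientGroup.quotientMulEquivOfEq hφk.symm).trans (QuotientGroup.quotientKerEquivOfSurjective φ hφ)
    have hs0 : IsSimpleGroup (N ⧸ pCore 2 N) := hN.simp
    have hKs : IsSimpleGroup K := e.symm.isSimpleGroup
    have hperf : ⁅K, K⁆ = K := by
      rw [hKe, ← Subgroup.map_commutator]
      congr 1
      apply Subgroup.map_injective (subtype_injective P)
      rw [Subgroup.map_commutator, subgroupOf_map_subtype, inf_eq_left.2 hNP, hN.perf]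
    have hKne : K ≠ ⊥ := by
      intro h0
      obtain ⟨y, hy⟩ := exists_ne (1 : K)
      apply hy
      exact Subtype.ext (mem_bot.1 (h0.le y.2))
    have hab : ∃ x y : K, x * y ≠ y * x := by
      by_contra hcon
      push Not at hcon
      apply hKne
      rw [← hperf, commutator_eq_bot_iff_le_centralizer]
      intro x hx
      rw [mem_centralizer_iff]
      intro y hy
      exact congrArg Subtype.val (hcon ⟨y, hy⟩ ⟨x, hx⟩)
    have htop : K ⊔ (TH : Subgroup H) = ⊤ := by
      rw [hKe, q.TH_eq, ← Subgroup.map_sup, eq_top_iff]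
      intro h _
      obtain ⟨y, rfl⟩ := q.surj h
      refine ⟨y, ?_, rfl⟩
      have h1 : N.subgroupOf P ⊔ T.subgroupOf P = (N ⊔ T).subgroupOf P := (Subgroup.subgroupOf_sup hNP hTP).symm
      rw [h1, ← hP]
      exact mem_subgroupOf.2 y.2
    have hcent : centralizer (K : Set H) = ⊥ := by
      have hCK : ∀ x ∈ centralizer (K : Set H), x ∈ K → x = 1 := by
        intro x hx hxK
        have h1 : (⟨x, hxK⟩ : K) ∈ center K := by
          rw [mem_center_iff]
          exact fun g => Subtype.ext (mem_centralizer_iff.1 hx g g.2)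
        rcases hKs.eq_bot_or_eq_top_of_normal (center K) inferInstance with h2 | h2
        · rw [h2, mem_bot] at h1
          exact congrArg Subtype.val h1
        · exfalso
          obtain ⟨a, b, hab⟩ := hab
          apply hab
          have h3 : b ∈ center K := by rw [h2]; exact mem_top _
          exact mem_center_iff.1 h3 a
      have hC2 : IsPGroup 2 (centralizer (K : Set H)) := by
        rintro ⟨c, hc⟩
        have h1 : c ∈ K ⊔ (TH : Subgroup H) := by rw [htop]; exact mem_top _
        rw [Subgroup.mem_sup_of_normal_left] at h1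
        obtain ⟨e, he, t, ht, rfl⟩ := h1
        obtain ⟨n, hn⟩ := EmpTypes.pow_of_mem TH.isPGroup' ht
        refine ⟨n, Subtype.ext ?_⟩
        show (e * t) ^ 2 ^ n = 1
        apply hCK _ (pow_mem hc _)
        rw [← QuotientGroup.eq_one_iff, QuotientGroup.mk_pow, QuotientGroup.mk_mul,
          (QuotientGroup.eq_one_iff e).2 he, one_mul, ← QuotientGroup.mk_pow, hn, QuotientGroup.mk_one]
      exact le_bot_iff.1 (q.core ▸ Lib.Cores.le_pCore inferInstance hC2)
    have hcardK : Nat.card K ∣ Nat.card N := Subgroup.card_dvd_of_surjective φ hφ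
    refine ⟨N, P, H, inferInstance, inferInstance, π, TH, A, K, ?_⟩
    exact
      { ks := hK
        out := o
        quot := q
        cp := hN
        mv := hmv
        P_eq := hP
        K_eq := hKe
        norm := hKn
        simp := hKs
        nab := hab
        cent := hcent
        top := htop
        three := by
          intro h3
          obtain ⟨P', hP', m⟩ := p.exists_mini
          obtain ⟨k, w⟩ := m.exists_wit hK
          obtain ⟨g, hgV, hgR, hg1, hg3, halt⟩ := o.three m.toPar w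
          have hgN := hcyc Nat.prime_three (by norm_num) (h3.trans hcardK) g hgR hg3
          rcases halt with ⟨r, hr, hne⟩ | ⟨h4, h5⟩
          · exact absurd (hNR hgN r hr) hne
          · exact ⟨g, hgN, hgV, hg1, hg3, P', hP', k, m.toPar, w, h4, h5⟩
        noprim := by
          intro l hl hld hlK
          obtain ⟨g, hgV, hgR, hgl, r, hr, hne⟩ := o.prim l hl hld
          have hl2 : l ≠ 2 := by
            rintro rfl
            have h1 := o.pos
            obtain ⟨d', rfl⟩ : ∃ d', d = d' + 1 := ⟨d - 1, by omega⟩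
            rw [pow_succ] at hld
            have h2 : 1 ≤ 2 ^ d' := Nat.one_le_two_pow
            omega
          exact hne (hNR (hcyc hl hl2 (hlK.trans hcardK) g hgR hgl) r hr) }

end Cfsg.Agent.OddCyclic.EmpKill
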