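import Mathlib
import Cfsg.Agent.OddCyclic.EmpA.Quot
import Cfsg.Agent.OddCyclic.Eq.SecQ

/-!
# (Empty), [C] (ib): the index bound

`Par S R T P`, `Wit S P k`, `D = V ⊓ O₂(P)`, `N ≤ P` perfect, normalised by `P = N T`. Then `P/O₂(P)` acts on an elementary
abelian 2-group `W` such that `N` is nontrivial on `W` and `|W : C_W(v)| ≤ |D : R|` for `v ∈ V`.

`M = ⟨D^x : x ∈ P⟩`, `M/R` is elementary abelian, `[M, v] ≤ D`; `W` is a section of `M/R`.
-/

set_option autoImplicit false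
set_option linter.unusedSectionVars false

namespace Cfsg.Agent.OddCyclic.EmpKill.Idx

open Subgroup Cfsg Cfsg.Agent.ZN Cfsg.Agent.ZN.ChoiceBase Cfsg.Agent.ZN.ChoiceSit
open Cfsg.Agent.MinSimple Cfsg.Agent.MinSimple.EmptyTI Cfsg.Agent.MinSimple.EmptySix
open Cfsg.Agent.MinSimple.EmptyE.Closed (LL CC vv_comm vv_sq vv_mul_self vv_inv
  isPGroup_vv vv_le_jj vv_le jj_le_centralizer_vv conj_mem_vv cj_vv)
open Cfsg.Agent.OddCyclic.EmpFrame Cfsg.Agent.OddCyclic.EmpA
open Cfsg.Agent.OddCyclic.T1Module Cfsg.Agent.OddCyclic.FFBasic Cfsg.Agent.OddCyclic.FFRed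
open Cfsg.Agent.OddCyclic.Eq.SecQ (Sec SecM VQ mkM mkM_surj mkM_eq_one mkM_eq actM actM_mk actM_eq_iff vq_sq cjW)

universe u

/-! ### reduction to a module with `O₂` in the kernel -/

theorem red {X : Type*} [Group X] {Q N : Subgroup X} (hQ : IsPGroup 2 Q) [Q.Normal] [N.Normal]
    (hperf : ⁅N, N⁆ = N) (A : Set X) (n : ℕ) (m : ℕ) :
    ∀ (W : Type u) [CommGroup W] [Finite W], Nat.card W ≤ m → (∀ w : W, w * w = 1) → ∀ α : X →* MulAut W,
      (∃ x ∈ N, ∃ w, α x w ≠ w) → (∀ a ∈ A, (fx α a).index ≤ n) →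
      ∃ (W' : Type u) (_ : CommGroup W') (_ : Finite W') (α' : X →* MulAut W'), (∀ w : W', w * w = 1) ∧
        (∀ x ∈ Q, ∀ w, α' x w = w) ∧ (∃ x ∈ N, ∃ w, α' x w ≠ w) ∧ ∀ a ∈ A, (fx α' a).index ≤ n := by
  induction m with
  | zero =>
    intro W _ _ hm
    have : 0 < Nat.card W := Nat.card_pos
    omega
  | succ m ih =>
    intro W _ _ hm hsq α hne hidx
    obtain ⟨C, hC⟩ : ∃ C : Subgroup W, C = CS α Q := ⟨_, rfl⟩
    have hCi : EmpC.Inv α C := hC ▸ EmpC.CS_inv α Q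
    have hmul := fun a => EmpC.index_mul_le hCi a
    have hpos : ∀ {Y : Type u} [CommGroup Y] [Finite Y] (B : Subgroup Y), 0 < B.index :=
      fun B => Nat.pos_of_ne_zero Subgroup.index_ne_zero_of_finite
    by_cases h1 : ∃ x ∈ N, ∃ w ∈ C, α x w ≠ w
    · obtain ⟨x, hx, w, hw, hxw⟩ := h1
      refine ⟨C, inferInstance, inferInstance, EmpC.sub α C hCi, fun w => Subtype.ext (hsq w), ?_,
        ⟨x, hx, ⟨w, hw⟩, fun h => hxw (congrArg Subtype.val h)⟩, ?_⟩
      · rintro y hy ⟨w, hw⟩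
        apply Subtype.ext
        rw [hC] at hw
        exact hw y hy
      · intro a ha
        exact (Nat.le_mul_of_pos_right _ (hpos _)).trans ((hmul a).trans (hidx a ha))
    · push Not at h1
      have hbot : C ≠ ⊥ := by
        obtain ⟨x, hx, w, hw⟩ := hne
        have h2 : (⊤ : Subgroup W) ≠ ⊥ := by
          intro h3
          apply hw
          have h4 : w ∈ (⊥ : Subgroup W) := h3 ▸ mem_top w
          rw [mem_bot.1 h4, map_one]
        obtain ⟨v, -, hv1, hv⟩ := EmpC.exists_fixed hsq hQ (W := ⊤) (fun _ _ _ _ => mem_top _) h2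
        intro h3
        rw [← hC, h3, mem_bot] at hv
        exact hv1 hv
      have hcard : Nat.card (W ⧸ C) ≤ m := by
        have h2 : Nat.card C * C.index = Nat.card W := C.card_mul_index
        have h3 : 2 ≤ Nat.card C := by
          by_contra hcon
          exact hbot ((card_le_one_iff_eq_bot _).1 (by omega))
        have h4 : 0 < C.index := hpos C
        have h5 : 2 * C.index ≤ Nat.card C * C.index := Nat.mul_le_mul_right _ h3
        show C.index ≤ m
        omega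
      refine ih (W ⧸ C) hcard (EmpC.quo_sq hsq) (EmpC.quo α C hCi) ?_ ?_
      · by_contra hcon
        push Not at hcon
        obtain ⟨x, hx, w, hw⟩ := hne
        apply hw
        have h2 : ∀ x ∈ N, ∀ w, α x w * w⁻¹ ∈ C := by
          intro x hx w
          have h3 := hcon x hx (w : W ⧸ C)
          rw [EmpC.quo_apply, QuotientGroup.eq] at h3
          have h4 := inv_mem h3
          rw [mul_inv_rev, inv_inv, mul_comm] at h4
          exact h4
        have h3 : N ≤ α.ker := by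
          rw [← hperf, commutator_le]
          intro x hx y hy
          have h5 : ∀ x ∈ N, ∀ y ∈ N, ∀ w, α (x * y) w = (α y w * w⁻¹) * (α x w * w⁻¹) * w := by
            intro x hx y hy w
            have h6 : α x (α y w) = α x (α y w * w⁻¹) * α x w := by
              rw [← map_mul, inv_mul_cancel_right]
            rw [map_mul, MulAut.mul_apply, h6, h1 x hx _ (h2 y hy w)]
            group
          have h6 : α (x * y) = α (y * x) := by
            ext w
            rw [h5 x hx y hy, h5 y hy x hx, mul_comm (α y w * w⁻¹)]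
          rw [MonoidHom.mem_ker, map_commutatorElement, commutatorElement_eq_one_iff_mul_comm, ← map_mul, ← map_mul, h6]
        have h4 := h3 hx
        rw [MonoidHom.mem_ker] at h4
        rw [h4]
        rfl
      · intro a ha
        exact (Nat.le_mul_of_pos_left _ (hpos _)).trans ((hmul a).trans (hidx a ha))

/-! ### the module `M / R` -/

variable {G : Type u} [Group G] [Finite G] {S : Sylow 2 G} {R T P : Subgroup G} {k : G}

/-- the elements of `P` commuting with `y` modulo `R` -/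
def cmR (p : Par S R T P) (y : G) : Subgroup G where
  carrier := {x | x ∈ P ∧ x * y * x⁻¹ * y⁻¹ ∈ R}
  one_mem' := ⟨one_mem _, by
    have e : 1 * y * 1⁻¹ * y⁻¹ = 1 := by group
    rw [e]; exact one_mem _⟩
  mul_mem' := by
    rintro x x' ⟨hx, h⟩ ⟨hx', h'⟩
    refine ⟨mul_mem hx hx', ?_⟩
    have h1 := p.comm hx h'
    have e : x * x' * y * (x * x')⁻¹ * y⁻¹ = x * (x' * y * x'⁻¹ * y⁻¹) * x⁻¹ * (x * y * x⁻¹ * y⁻¹) := by group
    rw [e, h1, mul_inv_cancel_right]
    exact mul_mem h' h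
  inv_mem' := by
    rintro x ⟨hx, h⟩
    refine ⟨inv_mem hx, ?_⟩
    have h1 := p.comm (inv_mem hx) (inv_mem h)
    have e : x⁻¹ * y * x⁻¹⁻¹ * y⁻¹ = x⁻¹ * (x * y * x⁻¹ * y⁻¹)⁻¹ * x := by group
    rw [e, h1, inv_mul_cancel_right]
    exact inv_mem h

/-- `M = ⟨D^x : x ∈ P⟩` -/
def MM (S : Sylow 2 G) (P : Subgroup G) : Subgroup G :=
  closure {y | ∃ x ∈ P, ∃ d ∈ dd (S : Subgroup G) P, y = x * d * x⁻¹}

theorem conj_mem_o2 {x d : G} (hx : x ∈ P) (hd : d ∈ o2 P) : x * d * x⁻¹ ∈ o2 P :=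
  (mem_normalizer_iff.1 (Block.le_normalizer_o2 P hx) d).1 hd

theorem MM_le_o2 : MM S P ≤ o2 P := by
  rw [MM, closure_le]
  rintro _ ⟨x, hx, d, hd, rfl⟩
  exact conj_mem_o2 hx hd.2

theorem MM_le : MM S P ≤ P := MM_le_o2.trans (ChoiceSit.o2_le _)

theorem dd_le_MM : dd (S : Subgroup G) P ≤ MM S P := by
  intro d hd
  exact subset_closure ⟨1, one_mem _, d, hd, by group⟩

/-- `[D^x, D^y] ≤ R` -/
theorem comm_gen (p : Par S R T P) {x y d e : G} (hx : x ∈ P) (hy : y ∈ P) (hd : d ∈ dd (S : Subgroup G) P)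
    (he : e ∈ dd (S : Subgroup G) P) :
    (x * d * x⁻¹) * (y * e * y⁻¹) * (x * d * x⁻¹)⁻¹ * (y * e * y⁻¹)⁻¹ ∈ R := by
  have hdx : x * d * x⁻¹ ∈ cj x (vv (S : Subgroup G)) := ⟨d, hd.1, rfl⟩
  have hey : y * e * y⁻¹ ∈ cj y (vv (S : Subgroup G)) := ⟨e, he.1, rfl⟩
  have hdo : x * d * x⁻¹ ∈ o2 P := conj_mem_o2 hx hd.2
  have heo : y * e * y⁻¹ ∈ o2 P := conj_mem_o2 hy he.2
  set a := x * d * x⁻¹
  set b := y * e * y⁻¹
  by_cases hc : cj y (vv (S : Subgroup G)) ≤ centralizer ((cj x (vv (S : Subgroup G)) : Subgroup G) : Set G)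
  · have h1 := mem_centralizer_iff.1 (hc hey) a hdx
    have h2 : a * b * a⁻¹ * b⁻¹ = 1 := by rw [h1]; group
    rw [h2]
    exact one_mem R
  · rw [← p.toConf.inf_eq hc (p.R_le_cj hx) (p.R_le_cj hy)]
    refine mem_inf.2 ⟨?_, ?_⟩
    · have e1 : a * b * a⁻¹ * b⁻¹ = a * (b * a⁻¹ * b⁻¹) := by group
      rw [e1]
      exact mul_mem hdx ((mem_normalizer_iff.1 (p.o2_normalizes hx heo) _).1 (inv_mem hdx))
    · exact mul_mem ((mem_normalizer_iff.1 (p.o2_normalizes hy hdo) _).1 hey) (inv_mem hey)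

/-- `[M, M] ≤ R` -/
theorem comm_MM (p : Par S R T P) {a b : G} (ha : a ∈ MM S P) (hb : b ∈ MM S P) : a * b * a⁻¹ * b⁻¹ ∈ R := by
  have h1 : ∀ y ∈ P, ∀ e ∈ dd (S : Subgroup G) P, MM S P ≤ cmR p (y * e * y⁻¹) := by
    intro y hy e he
    conv_lhs => rw [MM]
    rw [closure_le]
    rintro _ ⟨x, hx, d, hd, rfl⟩
    exact ⟨ChoiceSit.o2_le _ (conj_mem_o2 hx hd.2), comm_gen p hx hy hd he⟩
  have h2 : MM S P ≤ cmR p a := by
    conv_lhs => rw [MM]
    rw [closure_le]
    rintro _ ⟨y, hy, e, he, rfl⟩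
    refine ⟨ChoiceSit.o2_le _ (conj_mem_o2 hy he.2), ?_⟩
    have h3 := (h1 y hy e he ha).2
    have h4 := inv_mem h3
    have e1 : (a * (y * e * y⁻¹) * a⁻¹ * (y * e * y⁻¹)⁻¹)⁻¹ = (y * e * y⁻¹) * a * (y * e * y⁻¹)⁻¹ * a⁻¹ := by group
    rwa [e1] at h4
  have h3 := inv_mem (h2 hb).2
  have e1 : (b * a * b⁻¹ * a⁻¹)⁻¹ = a * b * a⁻¹ * b⁻¹ := by group
  rwa [e1] at h3

theorem sq_MM (p : Par S R T P) {a : G} (ha : a ∈ MM S P) : a * a ∈ R := by
  induction ha using closure_induction with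
  | mem a ha =>
    obtain ⟨x, hx, d, hd, rfl⟩ := ha
    have h1 : x * d * x⁻¹ * (x * d * x⁻¹) = x * (d * d) * x⁻¹ := by group
    rw [h1, vv_mul_self hd.1]
    have h2 : x * 1 * x⁻¹ = 1 := by group
    rw [h2]
    exact one_mem R
  | one => rw [one_mul]; exact one_mem R
  | mul a b ha hb iha ihb =>
    have hb' : b ∈ MM S P := hb
    have ha' : a ∈ MM S P := ha
    have h1 := comm_MM p hb' ha'
    have h2 := p.comm (MM_le ha') h1
    have e : a * b * (a * b) = a * (b * a * b⁻¹ * a⁻¹) * a * (b * b) := by group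
    rw [e, h2]
    have e2 : b * a * b⁻¹ * a⁻¹ * a * a * (b * b) = (b * a * b⁻¹ * a⁻¹) * ((a * a) * (b * b)) := by group
    rw [e2]
    exact mul_mem h1 (mul_mem iha ihb)
  | inv a _ iha =>
    have e : a⁻¹ * a⁻¹ = (a * a)⁻¹ := by group
    rw [e]
    exact inv_mem iha

theorem norm_MM : P ≤ normalizer (MM S P : Set G) := by
  refine Block.le_normalizer_of_forall ?_
  intro g hg x hx
  have h1 : MM S P ≤ (MM S P).comap (MulAut.conj g).toMonoidHom := by
    conv_lhs => rw [MM]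
    rw [closure_le]
    rintro _ ⟨y, hy, d, hd, rfl⟩
    show g * (y * d * y⁻¹) * g⁻¹ ∈ MM S P
    exact subset_closure ⟨g * y, mul_mem hg hy, d, hd, by group⟩
  exact h1 hx

theorem secM (p : Par S R T P) : SecM P (MM S P) R where
  YW := p.R_le_dd.trans dd_le_MM
  WY := MM_le.trans (p.leX.trans (centralizer_le_normalizer _))
  KW := norm_MM
  KY := p.leX.trans (centralizer_le_normalizer _)
  sq := fun _ hw => sq_MM p hw

/-- `|M/R : C_{M/R}(v)| ≤ |D : R|` -/
theorem index_le (p : Par S R T P) {v : G} (hv : v ∈ vv (S : Subgroup G)) :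
    (fx (actM (secM p)) ⟨v, p.vv_le hv⟩).index ≤ R.relIndex (dd (S : Subgroup G) P) := by
  let f : dd (S : Subgroup G) P →* VQ (secM p) := (mkM (secM p)).comp (inclusion dd_le_MM)
  have h1 : f.ker = R.subgroupOf (dd (S : Subgroup G) P) := by
    ext d
    rw [MonoidHom.mem_ker, mem_subgroupOf]
    exact mkM_eq_one (secM p)
  have h2 : (cm (actM (secM p)) ⟨v, p.vv_le hv⟩).range ≤ f.range := by
    rintro _ ⟨x, rfl⟩
    obtain ⟨m, rfl⟩ := mkM_surj (secM p) x
    have h3 := inv_mem (p.comm_mem_dd hv (MM_le_o2 m.2))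
    have e1 : ((m : G) * v * (m : G)⁻¹ * v⁻¹)⁻¹ = v * m * v⁻¹ * (m : G)⁻¹ := by group
    rw [e1] at h3
    refine ⟨⟨_, h3⟩, ?_⟩
    rw [cm_apply, actM_mk, ← map_inv, ← map_mul]
    rfl
  rw [← card_range_cm]
  refine (Nat.card_le_card_of_injective _ (inclusion_injective h2)).trans ?_
  rw [← index_ker, h1]
  rfl

/-- `N` is nontrivial on `M/R` -/
theorem nontriv (p : Par S R T P) (w : Wit S P k) {N : Subgroup G} (hNP : N ≤ P) (hNT : N ⊔ T = P) :
    ∃ x ∈ N.subgroupOf P, ∃ y, actM (secM p) x y ≠ y := by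
  by_contra hcon
  push Not at hcon
  have hN : N ≤ normalizer (dd (S : Subgroup G) P : Set G) := by
    refine Block.le_normalizer_of_forall ?_
    intro x hx d hd
    have h1 := hcon ⟨x, hNP hx⟩ (mem_subgroupOf.2 hx) (mkM (secM p) ⟨d, dd_le_MM hd⟩)
    rw [actM_eq_iff] at h1
    have h2 := mul_mem (p.R_le_dd h1) hd
    have e : x * d * x⁻¹ * d⁻¹ * d = x * d * x⁻¹ := by group
    rwa [e] at h2
  have hT : T ≤ normalizer (dd (S : Subgroup G) P : Set G) := by
    refine Block.le_normalizer_of_forall ?_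
    intro x hx d hd
    refine mem_inf.2 ⟨?_, conj_mem_o2 (p.le hx) hd.2⟩
    exact (mem_normalizer_iff.1 (p.toConf.T_le_LL hx) _).1 hd.1
  have hP : k ∈ normalizer (dd (S : Subgroup G) P : Set G) := by
    have h1 : P ≤ normalizer (dd (S : Subgroup G) P : Set G) := by
      conv_lhs => rw [← hNT]
      exact sup_le hN hT
    exact h1 w.mem
  apply p.R_ne_dd
  apply le_antisymm p.R_le_dd
  rw [← p.inf_eq_R w]
  refine le_inf inf_le_left ?_
  intro d hd
  have h1 : k⁻¹ * d * k ∈ dd (S : Subgroup G) P := by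
    have := (mem_normalizer_iff.1 (inv_mem hP) d).1 hd
    rwa [inv_inv] at this
  exact ⟨k⁻¹ * d * k, h1.1, by
    show k * (k⁻¹ * d * k) * k⁻¹ = d
    group⟩

/-- **(ib)** the index bound -/
theorem exists_mod (p : Par S R T P) (w : Wit S P k) {H : Type u} [Group H] {π : P →* H}
    (hπ : Function.Surjective π) (hker : ∀ x : P, π x = 1 ↔ (x : G) ∈ o2 P) {N : Subgroup G} (hNP : N ≤ P)
    (hn : P ≤ normalizer (N : Set G)) (hperf : ⁅N, N⁆ = N) (hNT : N ⊔ T = P) {K : Subgroup H}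
    (hK : K = (N.subgroupOf P).map π) (hs : IsSimpleGroup K) :
    ∃ (W : Type u) (_ : CommGroup W) (_ : Finite W) (ρ : H →* MulAut W), (∀ w : W, w * w = 1) ∧
      (∀ y ∈ K, y ≠ 1 → ∃ v, ρ y v ≠ v) ∧
      ∀ a ∈ ((vv (S : Subgroup G)).subgroupOf P).map π, (fx ρ a).index ≤ R.relIndex (dd (S : Subgroup G) P) := by
  have hQn : ((o2 P).subgroupOf P).Normal := normal_subgroupOf_of_le_normalizer (Block.le_normalizer_o2 P)
  have hNn : (N.subgroupOf P).Normal := normal_subgroupOf_of_le_normalizer hn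
  have hNperf : ⁅N.subgroupOf P, N.subgroupOf P⁆ = N.subgroupOf P := by
    apply map_injective P.subtype_injective
    rw [map_commutator, subgroupOf_map_subtype, inf_eq_left.2 hNP, hperf]
  obtain ⟨W, iW, iF, α, hsq, hQ, ⟨x, hx, y, hxy⟩, hidx⟩ := red (Q := (o2 P).subgroupOf P) (N := N.subgroupOf P)
    ((Block.o2_isPGroup P).comap_subtype (K := P)) hNperf {a : P | (a : G) ∈ vv (S : Subgroup G)}
    (R.relIndex (dd (S : Subgroup G) P)) (Nat.card (VQ (secM p))) (VQ (secM p)) le_rfl (vq_sq _) (actM (secM p))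
    (nontriv p w hNP hNT) (by
      rintro ⟨a, ha⟩ hav
      exact index_le p hav)
  have hle : π.ker ≤ α.ker := by
    intro z hz
    rw [MonoidHom.mem_ker] at hz ⊢
    ext v
    exact hQ z (mem_subgroupOf.2 ((hker z).1 hz)) v
  obtain ⟨ρ, hρ⟩ : ∃ ρ : H →* MulAut W, ∀ z, ρ (π z) = α z :=
    ⟨π.liftOfSurjective hπ ⟨α, hle⟩, fun z => MonoidHom.liftOfRightInverse_comp_apply _ _ _ _ _⟩
  refine ⟨W, iW, iF, ρ, hsq, ?_, ?_⟩
  · -- `K` is simple
    intro z hz hz1
    by_contra hcon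
    push Not at hcon
    have hkn : (ρ.comp K.subtype).ker.Normal := inferInstance
    rcases hs.eq_bot_or_eq_top_of_normal _ hkn with h1 | h1
    · apply hz1
      have h2 : (⟨z, hz⟩ : K) ∈ (ρ.comp K.subtype).ker := by
        rw [MonoidHom.mem_ker]
        ext v
        exact hcon v
      rw [h1, mem_bot] at h2
      exact congrArg Subtype.val h2
    · apply hxy
      have h2 : π x ∈ K := hK ▸ ⟨x, hx, rfl⟩
      have h3 : (⟨π x, h2⟩ : K) ∈ (ρ.comp K.subtype).ker := by rw [h1]; exact mem_top _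
      rw [MonoidHom.mem_ker] at h3
      have h4 : ρ (π x) = 1 := h3
      rw [← hρ, h4]
      rfl
  · rintro _ ⟨a, ha, rfl⟩
    have h1 : fx ρ (π a) = fx α a := by
      ext v
      rw [mem_fx, mem_fx, hρ]
    rw [h1]
    exact hidx a (mem_subgroupOf.1 ha)

/-- the same for `Quot` -/
theorem exists_mod' (w : Wit S P k) {H : Type u} [Group H] {π : P →* H} {TH : Sylow 2 H} {A : Subgroup H}
    (q : Quot S R T P π TH A) {N : Subgroup G} (hNP : N ≤ P)
    (hn : P ≤ normalizer (N : Set G)) (hperf : ⁅N, N⁆ = N) (hNT : N ⊔ T = P) {K : Subgroup H}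
    (hK : K = (N.subgroupOf P).map π) (hs : IsSimpleGroup K) :
    ∃ (W : Type u) (_ : CommGroup W) (_ : Finite W) (ρ : H →* MulAut W), (∀ w : W, w * w = 1) ∧
      (∀ y ∈ K, y ≠ 1 → ∃ v, ρ y v ≠ v) ∧ ∀ a ∈ A, (fx ρ a).index ≤ R.relIndex (dd (S : Subgroup G) P) := by
  rw [q.A_eq]
  exact exists_mod q.par w q.surj q.ker hNP hn hperf hNT hK hs

end Cfsg.Agent.OddCyclic.EmpKill.Idx
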