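import Mathlib
import Cfsg.Agent.OddCyclic.EmpKill.Frame
import Cfsg.Agent.OddCyclic.EmpKillFive
import Cfsg.Agent.OddCyclic.EmpKillFiveJ

/-!
# (Empty), kills: no configuration, up to `PSL₂(p)`, `p ≥ 7`
-/

set_option autoImplicit false
set_option linter.unusedSectionVars false

namespace Cfsg.Agent.OddCyclic.EmpKill

open Subgroup Cfsg Cfsg.Agent.ZN Cfsg.Agent.ZN.ChoiceBase Cfsg.Agent.ZN.ChoiceSit
open Cfsg.Agent.OddCyclic.EmpFrame Cfsg.Agent.OddCyclic.EmpA
open Cfsg.Agent.OddCyclic.KZeroCongr (KS)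

universe u

variable {G : Type u} [Group G] [Finite G] {S : Sylow 2 G} {R T : Subgroup G}

theorem main_of (c : Conf S R T) (ks : KS G)
    (hpsl : ∀ {N P : Subgroup G} {H : Type u} [Group H] [Finite H] {π : P →* H} {TH : Sylow 2 H} {A K : Subgroup H}
      {d : ℕ} (_ : Fr S R T N P π TH A K d) {F : Type} [Field F] [Finite F] (_ : Cfsg.Agent.GH.L2Aut.Rep F K),
      (Nat.card F).Prime → 7 ≤ Nat.card F → False) : False := by
  obtain ⟨d, o⟩ := exists_out c ks
  obtain ⟨N, P, H, _, _, π, TH, A, K, f⟩ := exists_fr c ks o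
  have hSL : ∀ (F : Type) [Field F] [Fintype F] [CharP F 2], (K ≃* Matrix.SpecialLinearGroup (Fin 2) F) → False := by
    intro F _ _ _ e
    obtain ⟨Y, -, r, x, p, hx, hm, g, hgY, -, hgV, hg1, hg3, -⟩ := EmpKillFive.sl_rm f e
    exact rm_false p o hx hm hgY hgV hg1 hg3
  rcases f.quot.kz ks K f.simp f.nab with ⟨F, _, _, hp, h5, ⟨e⟩⟩ | ⟨F, _, _, n, hn, hF, ⟨e⟩⟩ | hs | ⟨hJ, k, hk⟩
  · have hodd : Odd (Fintype.card F) := hp.odd_of_ne_two (by omega)
    by_cases h5' : Fintype.card F = 5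
    · obtain ⟨K', _, _, _, -, ⟨e'⟩⟩ := T1Socle.exists_four h5'
      exact hSL K' (e.trans e')
    · have h7 : 7 ≤ Fintype.card F := by
        have h6 : Fintype.card F ≠ 6 := by
          intro h6
          rw [h6] at hp
          revert hp
          norm_num
        omega
      have Rp := Cfsg.Agent.GH.L2Aut.Rep.ofEquiv (Cfsg.Agent.GH.L2Aut.two_ne_zero_of_odd hodd) e
      exact hpsl f Rp (by rw [Nat.card_eq_fintype_card]; exact hp) (by rw [Nat.card_eq_fintype_card]; exact h7)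
  · have hch : CharP F 2 := by
      have hch := ringChar.charP F
      have h1 : ringChar F ∣ 2 ^ n := by
        rw [← hF, ← CharP.cast_eq_zero_iff F (ringChar F), Nat.cast_card_eq_zero]
      have h2 : (ringChar F).Prime := CharP.char_is_prime F (ringChar F)
      have h3 : ringChar F = 2 := (Nat.prime_dvd_prime_iff_eq h2 Nat.prime_two).1 (h2.dvd_of_dvd_pow h1)
      rwa [h3] at hch
    obtain ⟨g⟩ := WeakTI.PslTwo.nonempty_equiv (F := F)
    exact hSL F (e.trans g.symm)
  · exact EmpKillFive.suz f hs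
  · exact EmpKillFive.jone f hJ hk

end Cfsg.Agent.OddCyclic.EmpKill
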