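import Mathlib
import Cfsg.Agent.OddCyclic.EmpKill.Defs
import Cfsg.Agent.OddCyclic.EmpKill.Idx
import Cfsg.Agent.OddCyclic.EmpKillFiveCent

/-!
# (Empty), [C] : components of order divisible by 3

`f : Fr S R T N P π TH A K d`, `3 ∣ |K|`. `g ∈ N` the 3-element of `f.three`, `γ = π g`, `D' = V ⊓ O₂(P')`.

* `exists_cent` : `|C_A(γ)| = |A : A'|` if `[A, γ] ≤ A'`, `C_{A'}(γ) = 1`;
* `data` : `|C_A(γ)| = 2 ^ d`, `|A| = 2 ^ d |A'|`, `A' ≤ K`, `|D : R| ≤ 2 ^ 2d`, `V ⊓ V^k = R` for some `k ∈ P`;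
* `exists_modK` : the index bound without a witness for `P`;
* `main` : `d = 1` and `|W : C_W(a)| ≤ 4` on a module `W`.
-/

set_option autoImplicit false
set_option linter.unusedSectionVars false

namespace Cfsg.Agent.OddCyclic.EmpKill.Small

open Subgroup Cfsg Cfsg.Agent.ZN Cfsg.Agent.ZN.ChoiceBase Cfsg.Agent.ZN.ChoiceSit
open Cfsg.Agent.MinSimple Cfsg.Agent.MinSimple.EmptyTI Cfsg.Agent.MinSimple.EmptySix
open Cfsg.Agent.MinSimple.EmptyE.Closed (LL CC vv_comm vv_sq vv_mul_self vv_inv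
  isPGroup_vv vv_le_jj vv_le jj_le_centralizer_vv conj_mem_vv cj_vv)
open Cfsg.Agent.OddCyclic.EmpFrame Cfsg.Agent.OddCyclic.EmpA
open Cfsg.Agent.OddCyclic.T1Module Cfsg.Agent.OddCyclic.FFBasic Cfsg.Agent.OddCyclic.FFRed
open Cfsg.Agent.OddCyclic.PumpMain (KZero)
open Cfsg.Agent.OddCyclic.Eq.SecQ (Sec SecM VQ mkM mkM_surj mkM_eq_one mkM_eq actM actM_mk actM_eq_iff vq_sq cjW)

universe u

section count

variable {H : Type*} [Group H] [Finite H]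

/-- `|C_A(γ)| = |A : A'|` -/
theorem exists_cent {A A' : Subgroup H} {γ : H} (hsq : ∀ a ∈ A, a * a = 1) (hA' : A' ≤ A)
    (h1 : ∀ a ∈ A, γ * a * γ⁻¹ * a⁻¹ ∈ A') (h2 : ∀ a ∈ A', γ * a * γ⁻¹ = a → a = 1) :
    ∃ C ≤ A, (∀ c ∈ C, c * γ = γ * c) ∧ Nat.card C = A'.relIndex A ∧
      ∀ a ∈ A', ∃ b ∈ A, a = γ * b * γ⁻¹ * b⁻¹ := by
  have hc : ∀ a ∈ A, ∀ b ∈ A, a * b = b * a := fun a ha b hb => FFRed.comm_of_sq hsq ha hb
  let φ : A →* A' := MonoidHom.mk' (fun a => ⟨γ * a * γ⁻¹ * (a : H)⁻¹, h1 a a.2⟩) (by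
    rintro ⟨a, ha⟩ ⟨b, hb⟩
    apply Subtype.ext
    show γ * (a * b) * γ⁻¹ * (a * b)⁻¹ = γ * a * γ⁻¹ * a⁻¹ * (γ * b * γ⁻¹ * b⁻¹)
    have h3 := hc _ (hA' (h1 b hb)) a⁻¹ (inv_mem ha)
    calc γ * (a * b) * γ⁻¹ * (a * b)⁻¹ = γ * a * γ⁻¹ * (γ * b * γ⁻¹ * b⁻¹ * a⁻¹) := by group
      _ = γ * a * γ⁻¹ * a⁻¹ * (γ * b * γ⁻¹ * b⁻¹) := by rw [h3]; group)
  have hφ : ∀ a : A, (φ a : H) = γ * a * γ⁻¹ * (a : H)⁻¹ := fun a => rfl
  have hinj : Function.Injective (φ.comp (inclusion hA')) := by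
    rw [← MonoidHom.ker_eq_bot_iff, eq_bot_iff]
    intro a ha
    rw [MonoidHom.mem_ker] at ha
    rw [mem_bot]
    apply Subtype.ext
    have h3 := congrArg Subtype.val ha
    exact h2 a a.2 (mul_inv_eq_one.1 h3)
  have hsurj : Function.Surjective φ := by
    have h3 := (Finite.injective_iff_surjective (α := A')).1 hinj
    intro a
    obtain ⟨b, hb⟩ := h3 a
    exact ⟨inclusion hA' b, hb⟩
  have hker : ∀ a : A, a ∈ φ.ker ↔ (a : H) * γ = γ * a := by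
    intro a
    rw [MonoidHom.mem_ker]
    constructor
    · intro h3
      have h4 := congrArg Subtype.val h3
      exact (mul_inv_eq_iff_eq_mul.1 (mul_inv_eq_one.1 h4)).symm
    · intro h3
      apply Subtype.ext
      rw [hφ, ← h3]
      show (a : H) * γ * γ⁻¹ * (a : H)⁻¹ = 1
      group
  refine ⟨φ.ker.map A.subtype, map_subtype_le _, ?_, ?_, ?_⟩
  · rintro _ ⟨a, ha, rfl⟩
    exact (hker a).1 ha
  · rw [Nat.card_congr (φ.ker.equivMapOfInjective _ A.subtype_injective).symm.toEquiv]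
    have h3 : φ.ker.index = Nat.card A' := by
      rw [index_ker, MonoidHom.range_eq_top.2 hsurj, card_top]
    have h4 := φ.ker.card_mul_index
    have h5 := relIndex_mul_relIndex ⊥ A' A bot_le hA'
    rw [relIndex_bot_left, relIndex_bot_left] at h5
    rw [h3] at h4
    have h6 : Nat.card A' * Nat.card φ.ker = Nat.card A' * A'.relIndex A := by rw [mul_comm, h4, h5]
    exact Nat.eq_of_mul_eq_mul_left Nat.card_pos h6
  · intro a ha
    obtain ⟨b, hb⟩ := hsurj ⟨a, ha⟩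
    exact ⟨b, b.2, (congrArg Subtype.val hb).symm⟩

end count

variable {G : Type u} [Group G] [Finite G] {S : Sylow 2 G} {R T N P P' : Subgroup G}
  {H : Type u} [Group H] [Finite H] {π : P →* H} {TH : Sylow 2 H} {A K : Subgroup H} {d : ℕ} {k : G}

/-- `g` has no fixed points on `D'/D` if it has none on `D'/R` -/
theorem fpf {g : G} {D D' R : Subgroup G} (hRD : R ≤ D) (hDD : D ≤ D') (hcomm : ∀ a ∈ D', ∀ b ∈ D', a * b = b * a)
    (hg' : ∀ v ∈ D', g * v * g⁻¹ ∈ D') (hg : ∀ v ∈ D, g * v * g⁻¹ ∈ D) (hgR : ∀ v ∈ R, g * v * g⁻¹ = v)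
    (hR : ∀ v ∈ D', g * v * g⁻¹ * v⁻¹ ∈ R → v ∈ R) : ∀ v ∈ D', g * v * g⁻¹ * v⁻¹ ∈ D → v ∈ D := by
  -- the homomorphism
  have hmul : ∀ a ∈ D', ∀ b ∈ D', g * (a * b) * g⁻¹ * (a * b)⁻¹ = g * a * g⁻¹ * a⁻¹ * (g * b * g⁻¹ * b⁻¹) := by
    intro a ha b hb
    have h3 := hcomm _ (mul_mem (hg' b hb) (inv_mem hb)) a⁻¹ (inv_mem ha)
    calc g * (a * b) * g⁻¹ * (a * b)⁻¹ = g * a * g⁻¹ * (g * b * g⁻¹ * b⁻¹ * a⁻¹) := by group
      _ = g * a * g⁻¹ * a⁻¹ * (g * b * g⁻¹ * b⁻¹) := by rw [h3]; group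
  let E : Subgroup G :=
    { carrier := {v | v ∈ D' ∧ g * v * g⁻¹ * v⁻¹ ∈ D}
      one_mem' := ⟨one_mem _, by
        have e : g * 1 * g⁻¹ * 1⁻¹ = 1 := by group
        rw [e]; exact one_mem _⟩
      mul_mem' := by
        rintro a b ⟨ha, ha'⟩ ⟨hb, hb'⟩
        exact ⟨mul_mem ha hb, by rw [hmul a ha b hb]; exact mul_mem ha' hb'⟩
      inv_mem' := by
        rintro a ⟨ha, ha'⟩
        refine ⟨inv_mem ha, ?_⟩
        have h3 := hmul a ha a⁻¹ (inv_mem ha)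
        have e : g * (a * a⁻¹) * g⁻¹ * (a * a⁻¹)⁻¹ = 1 := by group
        rw [e] at h3
        rw [← inv_eq_of_mul_eq_one_right h3.symm]
        exact inv_mem ha' }
  have hDE : D ≤ E := fun v hv => ⟨hDD hv, mul_mem (hg v hv) (inv_mem hv)⟩
  have hRn : (R.subgroupOf D).Normal := ⟨fun x hx y => by
    have h3 : (y : G) * x * (y : G)⁻¹ = x := by rw [hcomm _ (hDD y.2) _ (hDD x.2), mul_inv_cancel_right]
    rw [mem_subgroupOf]
    show (y : G) * x * (y : G)⁻¹ ∈ R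
    rw [h3]
    exact hx⟩
  let ψ : E →* D := MonoidHom.mk' (fun v => ⟨g * v * g⁻¹ * (v : G)⁻¹, v.2.2⟩) (by
    rintro ⟨a, ha⟩ ⟨b, hb⟩
    exact Subtype.ext (hmul a ha.1 b hb.1))
  let χ : E →* D ⧸ R.subgroupOf D := (QuotientGroup.mk' (R.subgroupOf D)).comp ψ
  have hker : χ.ker = R.subgroupOf E := by
    ext v
    rw [MonoidHom.mem_ker, mem_subgroupOf]
    show (QuotientGroup.mk' (R.subgroupOf D)) (ψ v) = 1 ↔ _
    rw [QuotientGroup.mk'_apply, QuotientGroup.eq_one_iff, mem_subgroupOf]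
    show g * (v : G) * g⁻¹ * (v : G)⁻¹ ∈ R ↔ _
    constructor
    · exact hR v v.2.1
    · intro hv
      rw [hgR v hv, mul_inv_cancel]
      exact one_mem _
  have h1 : R.relIndex E ≤ R.relIndex D := by
    have h2 : R.relIndex E = Nat.card χ.range := by
      rw [← index_ker, hker]
      rfl
    rw [h2]
    exact Nat.card_le_card_of_injective (fun x : χ.range => (x : D ⧸ R.subgroupOf D)) Subtype.val_injective
  have h2 := relIndex_mul_relIndex R D E hRD hDE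
  have h3 : 0 < R.relIndex D := Nat.pos_of_ne_zero (R.subgroupOf D).index_ne_zero_of_finite
  have h4 : D.relIndex E = 1 := by
    have h5 : R.relIndex D * D.relIndex E ≤ R.relIndex D * 1 := by rw [h2, mul_one]; exact h1
    have h6 := Nat.le_of_mul_le_mul_left h5 h3
    have h7 : 0 < D.relIndex E := Nat.pos_of_ne_zero (D.subgroupOf E).index_ne_zero_of_finite
    omega
  intro v hv hvD
  exact relIndex_eq_one.1 h4 (show v ∈ E from ⟨hv, hvD⟩)

/-- the data extracted from `three` -/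
structure Dt (S : Sylow 2 G) (R P : Subgroup G) (A K : Subgroup H) (d : ℕ) (γ : H) (A' C : Subgroup H) (k : G) :
    Prop where
  γK : γ ∈ K
  γ1 : γ ≠ 1
  γ3 : ∃ n : ℕ, γ ^ 3 ^ n = 1
  leA : A' ≤ A
  leK : A' ≤ K
  CA : C ≤ A
  comm : ∀ c ∈ C, c * γ = γ * c
  card : Nat.card C = 2 ^ d
  idx : A'.relIndex A = 2 ^ d
  nA : ∀ a ∈ A, γ * a * γ⁻¹ ∈ A
  nA' : ∀ a ∈ A', γ * a * γ⁻¹ ∈ A'
  fpf : ∀ a ∈ A', γ * a * γ⁻¹ = a → a = 1
  kP : k ∈ P
  inf : vv (S : Subgroup G) ⊓ cj k (vv (S : Subgroup G)) = R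
  quo : R.relIndex (dd (S : Subgroup G) P) ≤ (2 ^ d) ^ 2

theorem data (f : Fr S R T N P π TH A K d) (h3 : 3 ∣ Nat.card K) : ∃ γ A' C k, Dt S R P A K d γ A' C k := by
  have q := f.quot
  have p := q.par
  have hKn := f.norm
  obtain ⟨g, hgN, hgV, hg1, ⟨n, hn⟩, P', hP', k, p', w', hgD, hgR⟩ := f.three h3
  have hNP : N ≤ P := by rw [f.P_eq]; exact le_sup_left
  have hgP := hNP hgN
  have hDD := dd_anti p p' hP'
  have hD'V : dd (S : Subgroup G) P' ≤ vv (S : Subgroup G) := inf_le_left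
  have hD'P : dd (S : Subgroup G) P' ≤ P := hD'V.trans p.vv_le
  obtain ⟨γ, hγ⟩ : ∃ γ, γ = π ⟨g, hgP⟩ := ⟨_, rfl⟩
  have hγK : γ ∈ K := by
    rw [f.K_eq, hγ]
    exact ⟨_, mem_subgroupOf.2 hgN, rfl⟩
  have hγ3 : γ ^ 3 ^ n = 1 := by
    rw [hγ, ← map_pow]
    have h2 : (⟨g, hgP⟩ : P) ^ 3 ^ n = 1 := Subtype.ext hn
    rw [h2, map_one]
  have hγ1 : γ ≠ 1 := by
    intro hx1
    rw [hγ, q.ker] at hx1
    obtain ⟨m, hm⟩ := Block.o2_isPGroup P ⟨g, hx1⟩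
    have hm' : g ^ 2 ^ m = 1 := congrArg Subtype.val hm
    apply hg1
    have h3 : orderOf g ∣ 3 ^ n := orderOf_dvd_of_pow_eq_one hn
    have h4 : orderOf g ∣ 2 ^ m := orderOf_dvd_of_pow_eq_one hm'
    exact orderOf_eq_one_iff.1 (Nat.eq_one_of_dvd_coprimes
      (Nat.Coprime.pow n m (by norm_num : Nat.Coprime 3 2)) h3 h4)
  obtain ⟨A', hA'⟩ : ∃ A', A' = ((dd (S : Subgroup G) P').subgroupOf P).map π := ⟨_, rfl⟩
  have hA'm : ∀ {v : G} (hv : v ∈ dd (S : Subgroup G) P'), π ⟨v, hD'P hv⟩ ∈ A' := fun hv =>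
    hA'.ge ⟨_, mem_subgroupOf.2 hv, rfl⟩
  have hA'e : ∀ a ∈ A', ∃ v, ∃ hv : v ∈ dd (S : Subgroup G) P', π ⟨v, hD'P hv⟩ = a := by
    intro a ha
    rw [hA'] at ha
    obtain ⟨v, hv, rfl⟩ := ha
    exact ⟨v, hv, rfl⟩
  have hgD' : ∀ v ∈ dd (S : Subgroup G) P', g * v * g⁻¹ ∈ dd (S : Subgroup G) P' := by
    intro v hv
    have h1 := mul_mem (hgD v (hD'V hv)) hv
    have e : g * v * g⁻¹ * v⁻¹ * v = g * v * g⁻¹ := by group
    rwa [e] at h1
  have hgDD : ∀ v ∈ dd (S : Subgroup G) P, g * v * g⁻¹ ∈ dd (S : Subgroup G) P := by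
    intro v hv
    refine Subgroup.mem_inf.2 ⟨(mem_normalizer_iff.1 hgV v).1 hv.1, ?_⟩
    exact (mem_normalizer_iff.1 (Block.le_normalizer_o2 P hgP) v).1 hv.2
  have key := fpf (g := g) p.R_le_dd hDD (fun a ha b hb => vv_comm (hD'V ha) (hD'V hb)) hgD' hgDD
    (fun v hv => by rw [p.comm hgP hv, mul_inv_cancel_right]) hgR
  have hleA : A' ≤ A := by
    intro a ha
    obtain ⟨v, hv, rfl⟩ := hA'e a ha
    exact q.mem_A (hD'V hv)
  have hcj : ∀ {v : G} (hv : v ∈ P), γ * π ⟨v, hv⟩ * γ⁻¹ = π ⟨g * v * g⁻¹, mul_mem (mul_mem hgP hv) (inv_mem hgP)⟩ := by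
    intro v hv
    rw [hγ, ← map_inv, ← map_mul, ← map_mul]
    rfl
  have hcm : ∀ {v : G} (hv : v ∈ P), γ * π ⟨v, hv⟩ * γ⁻¹ * (π ⟨v, hv⟩)⁻¹ =
      π ⟨g * v * g⁻¹ * v⁻¹, mul_mem (mul_mem (mul_mem hgP hv) (inv_mem hgP)) (inv_mem hv)⟩ := by
    intro v hv
    rw [hcj hv, ← map_inv, ← map_mul]
    rfl
  have hnA : ∀ a ∈ A, γ * a * γ⁻¹ ∈ A := by
    intro a ha
    obtain ⟨v, hv, rfl⟩ := q.exists_of_mem ha
    rw [hcj (p.vv_le hv)]
    exact q.mem_A ((mem_normalizer_iff.1 hgV v).1 hv)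
  have hnA' : ∀ a ∈ A', γ * a * γ⁻¹ ∈ A' := by
    intro a ha
    obtain ⟨v, hv, rfl⟩ := hA'e a ha
    rw [hcj (hD'P hv)]
    exact hA'm (hgD' v hv)
  have h1 : ∀ a ∈ A, γ * a * γ⁻¹ * a⁻¹ ∈ A' := by
    intro a ha
    obtain ⟨v, hv, rfl⟩ := q.exists_of_mem ha
    rw [hcm (p.vv_le hv)]
    exact hA'm (hgD v hv)
  have h2 : ∀ a ∈ A', γ * a * γ⁻¹ = a → a = 1 := by
    intro a ha hf
    obtain ⟨v, hv, rfl⟩ := hA'e a ha
    rw [← mul_inv_eq_one, hcm (hD'P hv), q.ker] at hf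
    have h4 := key v hv (Subgroup.mem_inf.2 ⟨mul_mem ((mem_normalizer_iff.1 hgV v).1 (hD'V hv)) (inv_mem (hD'V hv)), hf⟩)
    exact (q.ker _).2 h4.2
  have hidx : A'.relIndex A = 2 ^ d := by
    rw [← f.out.idx p' w', q.A_eq, ← relIndex_comap, ← relIndex_subgroupOf p.vv_le]
    rw [← inf_relIndex_right, ← inf_relIndex_right ((dd (S : Subgroup G) P').subgroupOf P)]
    congr 1
    ext ⟨v, hvP⟩
    rw [mem_inf, mem_inf, mem_comap, mem_subgroupOf, mem_subgroupOf]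
    refine and_congr_left fun hv => ?_
    have hv : v ∈ vv (S : Subgroup G) := hv
    constructor
    · intro h4
      obtain ⟨w, hw, h5⟩ := hA'e _ h4
      have h6 : π (⟨v, hvP⟩ * (⟨w, hD'P hw⟩ : P)⁻¹) = 1 := by rw [map_mul, map_inv, h5, mul_inv_cancel]
      rw [q.ker] at h6
      have h7 : v * w⁻¹ ∈ dd (S : Subgroup G) P :=
        Subgroup.mem_inf.2 ⟨mul_mem hv (inv_mem (hD'V hw)), h6⟩
      have h8 := mul_mem (hDD h7) hw
      rwa [inv_mul_cancel_right] at h8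
    · intro h4
      exact hA'm h4
  obtain ⟨C, hCA, hCγ, hCc, hCs⟩ := exists_cent q.sq hleA h1 h2
  refine ⟨γ, A', C, k, hγK, hγ1, ⟨n, hγ3⟩, hleA, ?_, hCA, hCγ, hCc.trans hidx, hidx, hnA, hnA', h2,
    hP' w'.mem, p'.inf_eq_R w', ?_⟩
  · intro a ha
    obtain ⟨b, hb, rfl⟩ := hCs a ha
    have e : γ * b * γ⁻¹ * b⁻¹ = γ * (b * γ⁻¹ * b⁻¹) := by group
    rw [e]
    exact mul_mem hγK (hKn.conj_mem _ (inv_mem hγK) b)
  · have h5 := relIndex_mul_relIndex R _ _ p.R_le_dd hDD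
    rw [f.out.quo p' w'] at h5
    rw [← h5]
    exact Nat.le_mul_of_pos_right _ (Nat.pos_of_ne_zero ((dd (S : Subgroup G) P).subgroupOf _).index_ne_zero_of_finite)

/-! ### the index bound without a witness -/

/-- `N` is nontrivial on `M/R` -/
theorem nontriv (p : Par S R T P) (hkP : k ∈ P) (hk : vv (S : Subgroup G) ⊓ cj k (vv (S : Subgroup G)) = R)
    (hNP : N ≤ P) (hNT : N ⊔ T = P) :
    ∃ x ∈ N.subgroupOf P, ∃ y, actM (Idx.secM p) x y ≠ y := by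
  by_contra hcon
  push Not at hcon
  have hN : N ≤ normalizer (dd (S : Subgroup G) P : Set G) := by
    refine Block.le_normalizer_of_forall ?_
    intro x hx d hd
    have h1 := hcon ⟨x, hNP hx⟩ (mem_subgroupOf.2 hx) (mkM (Idx.secM p) ⟨d, Idx.dd_le_MM hd⟩)
    rw [actM_eq_iff] at h1
    have h2 := mul_mem (p.R_le_dd h1) hd
    have e : x * d * x⁻¹ * d⁻¹ * d = x * d * x⁻¹ := by group
    rwa [e] at h2
  have hT : T ≤ normalizer (dd (S : Subgroup G) P : Set G) := by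
    refine Block.le_normalizer_of_forall ?_
    intro x hx d hd
    refine mem_inf.2 ⟨?_, Idx.conj_mem_o2 (p.le hx) hd.2⟩
    exact (mem_normalizer_iff.1 (p.toConf.T_le_LL hx) _).1 hd.1
  have hP : k ∈ normalizer (dd (S : Subgroup G) P : Set G) := by
    have h1 : P ≤ normalizer (dd (S : Subgroup G) P : Set G) := by
      conv_lhs => rw [← hNT]
      exact sup_le hN hT
    exact h1 hkP
  apply p.R_ne_dd
  apply le_antisymm p.R_le_dd
  rw [← hk]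
  refine le_inf inf_le_left ?_
  intro d hd
  have h1 : k⁻¹ * d * k ∈ dd (S : Subgroup G) P := by
    have := (mem_normalizer_iff.1 (inv_mem hP) d).1 hd
    rwa [inv_inv] at this
  exact ⟨k⁻¹ * d * k, h1.1, by
    show k * (k⁻¹ * d * k) * k⁻¹ = d
    group⟩

/-- the index bound -/
theorem exists_modK (q : Quot S R T P π TH A) (hkP : k ∈ P)
    (hk : vv (S : Subgroup G) ⊓ cj k (vv (S : Subgroup G)) = R) (hNP : N ≤ P)
    (hn : P ≤ normalizer (N : Set G)) (hperf : ⁅N, N⁆ = N) (hNT : N ⊔ T = P)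
    (hK : K = (N.subgroupOf P).map π) (hs : IsSimpleGroup K) :
    ∃ (W : Type u) (_ : CommGroup W) (_ : Finite W) (ρ : H →* MulAut W), (∀ w : W, w * w = 1) ∧
      (∀ y ∈ K, y ≠ 1 → ∃ v, ρ y v ≠ v) ∧ ∀ a ∈ A, (fx ρ a).index ≤ R.relIndex (dd (S : Subgroup G) P) := by
  have p := q.par
  have hπ := q.surj
  have hker := q.ker
  rw [q.A_eq]
  have hQn : ((o2 P).subgroupOf P).Normal := normal_subgroupOf_of_le_normalizer (Block.le_normalizer_o2 P)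
  have hNn : (N.subgroupOf P).Normal := normal_subgroupOf_of_le_normalizer hn
  have hNperf : ⁅N.subgroupOf P, N.subgroupOf P⁆ = N.subgroupOf P := by
    apply map_injective P.subtype_injective
    rw [map_commutator, subgroupOf_map_subtype, inf_eq_left.2 hNP, hperf]
  obtain ⟨W, iW, iF, α, hsq, hQ, ⟨x, hx, y, hxy⟩, hidx⟩ := Idx.red (Q := (o2 P).subgroupOf P) (N := N.subgroupOf P)
    ((Block.o2_isPGroup P).comap_subtype (K := P)) hNperf {a : P | (a : G) ∈ vv (S : Subgroup G)}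
    (R.relIndex (dd (S : Subgroup G) P)) (Nat.card (VQ (Idx.secM p))) (VQ (Idx.secM p)) le_rfl (vq_sq _)
    (actM (Idx.secM p)) (nontriv p hkP hk hNP hNT) (by
      rintro ⟨a, ha⟩ hav
      exact Idx.index_le p hav)
  have hle : π.ker ≤ α.ker := by
    intro z hz
    rw [MonoidHom.mem_ker] at hz ⊢
    ext v
    exact hQ z (mem_subgroupOf.2 ((hker z).1 hz)) v
  obtain ⟨ρ, hρ⟩ : ∃ ρ : H →* MulAut W, ∀ z, ρ (π z) = α z :=
    ⟨π.liftOfSurjective hπ ⟨α, hle⟩, fun z => MonoidHom.liftOfRightInverse_comp_apply _ _ _ _ _⟩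
  refine ⟨W, iW, iF, ρ, hsq, ?_, ?_⟩
  · -- `K` is simple
    intro z hz hz1
    by_contra hcon
    push Not at hcon
    have hkn : (ρ.comp K.subtype).ker.Normal := inferInstance
    rcases hs.eq_bot_or_eq_top_of_normal _ hkn with h1 | h1
    · apply hz1
      have h2 : (⟨z, hz⟩ : K) ∈ (ρ.comp K.subtype).ker := by
        rw [MonoidHom.mem_ker]
        ext v
        exact hcon v
      rw [h1, mem_bot] at h2
      exact congrArg Subtype.val h2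
    · apply hxy
      have h2 : π x ∈ K := hK ▸ ⟨x, hx, rfl⟩
      have h3 : (⟨π x, h2⟩ : K) ∈ (ρ.comp K.subtype).ker := by rw [h1]; exact mem_top _
      rw [MonoidHom.mem_ker] at h3
      have h4 : ρ (π x) = 1 := h3
      rw [← hρ, h4]
      rfl
  · rintro _ ⟨a, ha, rfl⟩
    have h1 : fx ρ (π a) = fx α a := by
      ext v
      rw [mem_fx, mem_fx, hρ]
    rw [h1]
    exact hidx a (mem_subgroupOf.1 ha)

/-- an element of order 3 -/
theorem exists_three {γ : H} (h1 : γ ≠ 1) (h3 : ∃ n : ℕ, γ ^ 3 ^ n = 1) : ∃ m : ℕ, orderOf (γ ^ m) = 3 := by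
  obtain ⟨n, hn⟩ := h3
  obtain ⟨m, -, hm⟩ := (Nat.dvd_prime_pow Nat.prime_three).1 (orderOf_dvd_of_pow_eq_one hn)
  have hm0 : m ≠ 0 := by
    rintro rfl
    rw [pow_zero, orderOf_eq_one_iff] at hm
    exact h1 hm
  refine ⟨3 ^ (m - 1), ?_⟩
  have h4 : 3 ^ m = 3 ^ (m - 1) * 3 := by
    rw [← pow_succ]; congr 1; omega
  rw [orderOf_pow_of_dvd (pow_ne_zero _ (by norm_num)) (by rw [hm]; exact ⟨3, h4⟩), hm, h4]
  exact Nat.mul_div_cancel_left 3 (by positivity)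

/-- **components of order divisible by 3: `d = 1`** -/
theorem main (f : Fr S R T N P π TH A K d) (hkz : KZero K) (h3 : 3 ∣ Nat.card K) :
    (∃ γ A' C k, Dt S R P A K 1 γ A' C k) ∧
    ∃ (W : Type u) (_ : CommGroup W) (_ : Finite W) (ρ : H →* MulAut W), (∀ w : W, w * w = 1) ∧
      (∀ y ∈ K, y ≠ 1 → ∃ v, ρ y v ≠ v) ∧ ∀ a ∈ A, (fx ρ a).index ≤ 4 := by
  obtain ⟨γ, A', C, k, D⟩ := data f h3
  have hd : d = 1 := by
    obtain ⟨m, hm⟩ := exists_three D.γ1 D.γ3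
    have h4 := EmpKillFive.card_cent_le f.norm f.cent hkz (pow_mem D.γK m) hm (B := C)
      (fun b hb => f.quot.sq b (D.CA hb)) (fun b hb => (Commute.pow_right (D.comm b hb) m).eq)
    rw [D.card] at h4
    have h5 := f.out.pos
    have h6 : d ≤ 2 := by
      by_contra hcon
      have := Nat.pow_le_pow_right (n := 2) (by norm_num) (show 3 ≤ d by omega)
      omega
    have h7 : d ≠ 2 := by
      rintro rfl
      exact f.noprim 3 Nat.prime_three (by norm_num) h3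
    omega
  subst hd
  refine ⟨⟨γ, A', C, k, D⟩, ?_⟩
  obtain ⟨W, i1, i2, ρ, h1, h2, h4⟩ := exists_modK f.quot D.kP D.inf (N := N) (K := K)
    (by rw [f.P_eq]; exact le_sup_left)
    (by
      have hP := f.quot.par.leX
      exact hP.trans f.cp.norm) f.cp.perf f.P_eq.symm f.K_eq f.simp
  exact ⟨W, i1, i2, ρ, h1, h2, fun a ha => (h4 a ha).trans (D.quo.trans (by norm_num))⟩

end Cfsg.Agent.OddCyclic.EmpKill.Small
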