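import Mathlib
import Cfsg.Agent.OddCyclic.EmpKill.Small
import Cfsg.Agent.OddCyclic.EmpTypesPsl
import Cfsg.Agent.OddCyclic.Eq.ModP

/-!
# (Empty), [C] : `K ≅ PSL₂(p)`, `p ≥ 7`

* `three_dvd` : `3 ∣ |PSL₂(F)|`;
* `seven` : in `PSL₂(7)` an element of order 3 does not commute with an involution;
* `false_of` : `Fr` with `K ≅ PSL₂(p)`, `p ≥ 7`, is impossible.
-/

set_option autoImplicit false
set_option linter.unusedSectionVars false

namespace Cfsg.Agent.OddCyclic.EmpKill.PslP

open Subgroup Cfsg Cfsg.Agent.ZN Cfsg.Agent.ZN.ChoiceBase Cfsg.Agent.ZN.ChoiceSit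
open Cfsg.Agent.OddCyclic.EmpA
open Cfsg.Agent.OddCyclic.T1Module Cfsg.Agent.OddCyclic.FFBasic
open Cfsg.Agent.GH.L2Aut Cfsg.Agent.Lib.SL2Mat Cfsg.Agent.Lib.PSL2Torus

universe u

section mat

variable {F : Type*} [Field F] [Finite F] {L : Type*} [Group L] [Finite L] (R : Cfsg.Agent.GH.L2Aut.Rep F L)

include R

/-- an element of order 3 -/
theorem three_dvd : 3 ∣ Nat.card L := by
  let X : Matrix.SpecialLinearGroup (Fin 2) F := mk 0 1 (-1) (-1) (by ring)
  have h3 : X * X * X = 1 := by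
    refine ext_ent ?_ ?_ ?_ ?_
    · rw [ent_mul, ent_mul, ent_mul]
      show ((0 : F) * 0 + 1 * (-1)) * 0 + (0 * 1 + 1 * (-1)) * (-1) = 1; ring
    · rw [ent_mul, ent_mul, ent_mul]
      show ((0 : F) * 0 + 1 * (-1)) * 1 + (0 * 1 + 1 * (-1)) * (-1) = 0; ring
    · rw [ent_mul, ent_mul, ent_mul]
      show ((-1 : F) * 0 + (-1) * (-1)) * 0 + ((-1) * 1 + (-1) * (-1)) * (-1) = 0; ring
    · rw [ent_mul, ent_mul, ent_mul]
      show ((-1 : F) * 0 + (-1) * (-1)) * 1 + ((-1) * 1 + (-1) * (-1)) * (-1) = 1; ring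
  have h1 : R.π X ≠ 1 := by
    intro h
    rw [R.ker] at h
    have h4 : ent X 0 1 = 1 := rfl
    rcases h with h | h
    · rw [h] at h4
      exact zero_ne_one h4
    · rw [h] at h4
      have h5 : ent (-1 : Matrix.SpecialLinearGroup (Fin 2) F) 0 1 = -0 := rfl
      rw [h5, neg_zero] at h4
      exact zero_ne_one h4
  have h2 : orderOf (R.π X) = 3 := by
    refine orderOf_eq_prime ?_ h1
    rw [pow_succ, pow_two, ← map_mul, ← map_mul, h3, map_one]
  rw [← h2]
  exact orderOf_dvd_natCard _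

/-- in `PSL₂(7)` an element of order 3 does not commute with an involution -/
theorem seven (hF : Nat.card F = 7) {t x : L} (ht : t * t = 1) (ht1 : t ≠ 1) (hx : x * x * x = 1)
    (hc : x * t = t * x) : x = 1 := by
  have hF7 : (7 : F) = 0 := FFThree.cast_seven hF
  have hjj : jm F * jm F = -1 := by
    refine ext_ent ?_ ?_ ?_ ?_
    · rw [ent_mul]; show 0 * 0 + (-1) * 1 = -(1 : F); ring
    · rw [ent_mul]; show 0 * (-1) + (-1) * 0 = -(0 : F); ring
    · rw [ent_mul]; show 1 * 0 + 0 * 1 = -(0 : F); ring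
    · rw [ent_mul]; show 1 * (-1) + 0 * 0 = -(1 : F); ring
  have hw : R.π (jm F) * R.π (jm F) = 1 := by rw [← map_mul, hjj, R.ker]; exact Or.inr rfl
  have hw1 : R.π (jm F) ≠ 1 := by
    intro h
    rw [R.ker] at h
    rcases h with h | h
    · rw [h, mul_one] at hjj; exact R.neg_one_ne_one hjj.symm
    · rw [h, neg_mul_neg, mul_one] at hjj; exact R.neg_one_ne_one hjj.symm
  obtain ⟨g, hg⟩ := conj_inv_hom R.π R.two R.surj R.ker ht1 ht hw1 hw
  obtain ⟨y, hy⟩ : ∃ y, y = g * x * g⁻¹ := ⟨_, rfl⟩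
  have hy3 : y * y * y = 1 := by
    have : y * y * y = g * (x * x * x) * g⁻¹ := by rw [hy]; group
    rw [this, hx]; group
  have hyc : y * R.π (jm F) = R.π (jm F) * y := by
    rw [hy, ← hg]
    calc g * x * g⁻¹ * (g * t * g⁻¹) = g * (x * t) * g⁻¹ := by group
      _ = g * (t * x) * g⁻¹ := by rw [hc]
      _ = g * t * g⁻¹ * (g * x * g⁻¹) := by group
  suffices h : y = 1 by
    have h1 : x = g⁻¹ * y * g := by rw [hy]; group
    rw [h1, h]; group
  obtain ⟨X, rfl⟩ := R.surj y
  rw [← map_mul, ← map_mul, R.π_eq_iff] at hyc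
  rw [← map_mul, ← map_mul, R.ker] at hy3
  have hdet := det_eq X
  have hXJ : ∀ i j, ent (X * jm F) i j = ent X i 0 * ent (jm F) 0 j + ent X i 1 * ent (jm F) 1 j := fun i j =>
    ent_mul _ _ _ _
  have j00 : ent (jm F) 0 0 = 0 := rfl
  have j01 : ent (jm F) 0 1 = -1 := rfl
  have j10 : ent (jm F) 1 0 = 1 := rfl
  have j11 : ent (jm F) 1 1 = 0 := rfl
  have n00 : ∀ Z : Matrix.SpecialLinearGroup (Fin 2) F, ∀ i j, ent (-Z) i j = -ent Z i j := fun Z i j => rfl
  have o00 : ent (1 : Matrix.SpecialLinearGroup (Fin 2) F) 0 0 = 1 := ent_one_00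
  have o01 : ent (1 : Matrix.SpecialLinearGroup (Fin 2) F) 0 1 = 0 := ent_one_01
  have o10 : ent (1 : Matrix.SpecialLinearGroup (Fin 2) F) 1 0 = 0 := ent_one_10
  have o11 : ent (1 : Matrix.SpecialLinearGroup (Fin 2) F) 1 1 = 1 := ent_one_11
  rcases hyc with h | h
  · -- `X` commutes with `jm`
    have e00 := congrArg (fun Z => ent Z 0 0) h
    have e01 := congrArg (fun Z => ent Z 0 1) h
    simp only [ent_mul, j00, j01, j10, j11] at e00 e01
    obtain ⟨a, ha⟩ : ∃ a, a = ent X 0 0 := ⟨_, rfl⟩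
    obtain ⟨b, hb⟩ : ∃ b, b = ent X 1 0 := ⟨_, rfl⟩
    have h01 : ent X 0 1 = -b := by rw [hb]; linear_combination e00
    have h11 : ent X 1 1 = a := by rw [ha]; linear_combination e01
    rw [h01, h11, ← ha, ← hb] at hdet
    have hb0 : 3 * a * a * b - b * b * b = 0 := by
      have key : ent (X * X * X) 1 0 = 3 * a * a * b - b * b * b := by
        simp only [ent_mul]
        rw [h01, h11, ← ha, ← hb]
        ring
      rcases hy3 with h3 | h3
      · rw [← key, h3, o10]
      · rw [← key, h3, n00, o10, neg_zero]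
    have hbz : b = 0 := by
      by_contra hbne
      have h3 : 3 * a * a - b * b = 0 := by
        have : b * (3 * a * a - b * b) = 0 := by linear_combination hb0
        exact (mul_eq_zero.1 this).resolve_left hbne
      -- `b² = -1`
      have h4 : b * b = -1 := by
        linear_combination -(2 * h3) * 1 + 6 * hdet - (b * b - 1) * hF7 + 0 * h3
      have h5 : b ^ 6 = 1 := by
        have := Fintype.ofFinite F
        have h6 := FiniteField.pow_card_sub_one_eq_one b hbne
        rw [← Nat.card_eq_fintype_card, hF] at h6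
        exact h6
      have h6 : b ^ 6 = -1 := by
        have : b ^ 6 = (b * b) * (b * b) * (b * b) := by ring
        rw [this, h4]; ring
      rw [h6] at h5
      apply R.two
      linear_combination -h5
    have haa : a * a = 1 := by rw [hbz] at hdet; linear_combination hdet
    rw [R.ker]
    rcases mul_self_eq_one_iff.1 haa with h3 | h3
    · left
      refine ext_ent ?_ ?_ ?_ ?_
      · rw [← ha, h3, o00]
      · rw [h01, hbz, neg_zero, o01]
      · rw [← hb, hbz, o10]
      · rw [h11, h3, o11]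
    · right
      refine ext_ent ?_ ?_ ?_ ?_
      · rw [← ha, h3, n00, o00]
      · rw [h01, hbz, neg_zero, n00, o01, neg_zero]
      · rw [← hb, hbz, n00, o10, neg_zero]
      · rw [h11, h3, n00, o11]
  · -- `X` anticommutes with `jm`: `X² = -1`
    have e00 := congrArg (fun Z => ent Z 0 0) h
    have e01 := congrArg (fun Z => ent Z 0 1) h
    simp only [n00, ent_mul, j00, j01, j10, j11] at e00 e01
    obtain ⟨a, ha⟩ : ∃ a, a = ent X 0 0 := ⟨_, rfl⟩
    obtain ⟨b, hb⟩ : ∃ b, b = ent X 1 0 := ⟨_, rfl⟩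
    have h01 : ent X 0 1 = b := by rw [hb]; linear_combination e00
    have h11 : ent X 1 1 = -a := by rw [ha]; linear_combination -e01
    rw [h01, h11, ← ha, ← hb] at hdet
    have hXX : X * X = -1 := by
      refine ext_ent ?_ ?_ ?_ ?_
      · rw [ent_mul, n00, o00, h01, ← ha, ← hb]; linear_combination -hdet
      · rw [ent_mul, n00, o01, h01, h11, ← ha]; ring
      · rw [ent_mul, n00, o10, h11, ← ha, ← hb]; ring
      · rw [ent_mul, n00, o11, h01, h11, ← hb]; linear_combination -hdet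
    have h2 : R.π X * R.π X = 1 := by rw [← map_mul, hXX, R.ker]; exact Or.inr rfl
    have h3 : R.π X * R.π X * R.π X = 1 := by
      rw [← map_mul, ← map_mul, R.ker]; exact hy3
    rw [h2, one_mul] at h3
    exact h3

end mat

/-- in a group of order 2 there is only one element `≠ 1` -/
theorem eq_of_card_two {H : Type*} [Group H] {B : Subgroup H} (h : Nat.card B = 2) {a b : H} (ha : a ∈ B) (ha1 : a ≠ 1)
    (hb : b ∈ B) (hb1 : b ≠ 1) : a = b := by
  obtain ⟨y, -, hy⟩ := (Nat.card_eq_two_iff' (1 : B)).1 h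
  have h1 := hy ⟨a, ha⟩ fun h => ha1 (congrArg Subtype.val h)
  have h2 := hy ⟨b, hb⟩ fun h => hb1 (congrArg Subtype.val h)
  exact congrArg Subtype.val (h1.trans h2.symm)

variable {G : Type u} [Group G] [Finite G] {S : Sylow 2 G} {R T N P : Subgroup G}
  {H : Type u} [Group H] [Finite H] {π : P →* H} {TH : Sylow 2 H} {A K : Subgroup H} {d : ℕ}

/-- an element of `H` centralising a Sylow 2-subgroup of `H` is contained in `K` -/
theorem mem_of_central [K.Normal] (hC : centralizer (K : Set H) = ⊥) {F : Type*} [Field F] [Finite F]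
    (Q : Cfsg.Agent.GH.L2Aut.Rep F K) (hF : (Nat.card F).Prime) {a : H}
    (ha : ∀ s ∈ (TH : Subgroup H), s * a = a * s) : a ∈ K := by
  have hf2 : Fact (Nat.Prime 2) := ⟨Nat.prime_two⟩
  obtain ⟨ψ, hψ⟩ : ∃ ψ : H →* MulAut K, ψ = MulAut.conjNormal := ⟨_, rfl⟩
  have hψa : ∀ (x : H) (k : K), ((ψ x k : K) : H) = x * k * x⁻¹ := by
    intro x k; rw [hψ, MulAut.conjNormal_apply]
  have hinj : ∀ x y : H, ψ x = ψ y → x = y := by
    intro x y hxy
    have h1 : y⁻¹ * x ∈ centralizer (K : Set H) := by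
      rw [mem_centralizer_iff]
      intro k hk
      have h2 := hψa x ⟨k, hk⟩
      rw [hxy, hψa y ⟨k, hk⟩] at h2
      have h2' : y * k * y⁻¹ = x * k * x⁻¹ := h2
      calc k * (y⁻¹ * x) = y⁻¹ * (y * k * y⁻¹) * x := by group
        _ = y⁻¹ * (x * k * x⁻¹) * x := by rw [h2']
        _ = y⁻¹ * x * k := by group
    rw [hC, mem_bot, inv_mul_eq_one] at h1
    exact h1.symm
  have hconj : ∀ k : K, ψ (k : H) = MulAut.conj k := by
    intro k
    ext x
    rw [hψa]
    rfl
  -- a Sylow 2-subgroup of `K`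
  have hsyl : Syl ((TH : Subgroup H) ⊓ K) K := by
    have h1 : Syl (TH : Subgroup H) (⊤ : Subgroup H) :=
      ⟨le_top, TH.isPGroup', fun Q _ hQ hTQ => TH.is_maximal' hQ hTQ⟩
    refine ⟨inf_le_right, TH.isPGroup'.to_le inf_le_left, fun Q hQN hQ hTQ => ?_⟩
    obtain ⟨S', hS', hQS⟩ := exists_syl hQ (le_top : Q ≤ ⊤)
    obtain ⟨x, -, hxS⟩ := syl_conj h1 hS'
    have h2 : Q ≤ cj x ((TH : Subgroup H) ⊓ K) := by
      rw [cj_inf, hxS, cj_eq_of_mem_normalizer (normalizer_eq_top_iff.2 ‹K.Normal› ▸ mem_top x)]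
      exact le_inf hQS hQN
    have h3 : Nat.card Q ≤ Nat.card ((TH : Subgroup H) ⊓ K : Subgroup H) := by
      have h4 := Nat.card_le_card_of_injective _ (Subgroup.inclusion_injective h2)
      rwa [card_cj] at h4
    exact (Subgroup.eq_of_le_of_card_ge hTQ h3).symm
  obtain ⟨S₁, hS₁⟩ := syl_iff.1 hsyl
  obtain ⟨u, v, hu, hv, huv⟩ := Q.exists_four_mem S₁
  have hS₁' : ∀ w : K, w ∈ S₁ → (w : H) ∈ (TH : Subgroup H) := by
    intro w hw
    have h1 : (w : H) ∈ (TH : Subgroup H) ⊓ K := by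
      rw [← hS₁]
      exact ⟨w, hw, rfl⟩
    exact h1.1
  have hfix : ∀ w : K, w ∈ S₁ → ψ a w = w := by
    intro w hw
    apply Subtype.ext
    rw [hψa, ← ha _ (hS₁' w hw), mul_inv_cancel_right]
  rcases Q.fix_four huv (PGLTorus.mem_PGL_of_prime Q hF (ψ a)) (hfix u hu) (hfix v hv) with h | h | h | h
  · have h1 : a = 1 := hinj _ _ (by rw [h, map_one])
    rw [h1]; exact one_mem _
  all_goals
    rw [← hconj] at h
    rw [hinj _ _ h]
    exact Subtype.property _

/-- **`K ≅ PSL₂(p)`, `p ≥ 7`** -/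
theorem false_of (f : Fr S R T N P π TH A K d) {F : Type*} [Field F] [Finite F] (Q : Cfsg.Agent.GH.L2Aut.Rep F K)
    (hF : (Nat.card F).Prime) (h7 : 7 ≤ Nat.card F) : False := by
  have hf2 : Fact (Nat.Prime 2) := ⟨Nat.prime_two⟩
  have hKn := f.norm
  have q := f.quot
  have h3 : 3 ∣ Nat.card K := three_dvd Q
  obtain ⟨⟨γ, A', C, k, D⟩, W, _, _, ρ, hW, hne, hidx⟩ := Small.main f (q.kz f.ks K f.simp f.nab) h3
  have h4 : Nat.card A ≤ 4 := EmpE.Kill.card_le_four Q f.cent hF q.sq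
  have h5 := relIndex_mul_relIndex ⊥ A' A bot_le D.leA
  rw [relIndex_bot_left, relIndex_bot_left, D.idx, pow_one] at h5
  -- `A' = 1`
  have hA' : A' = ⊥ := by
    by_contra hne'
    obtain ⟨⟨a, ha⟩, ha1'⟩ := Subgroup.ne_bot_iff_exists_ne_one.1 hne'
    have ha1 : a ≠ 1 := fun h => ha1' (Subtype.ext h)
    have h6 : Nat.card A' = 2 := by
      have h7 : Nat.card A' ≠ 1 := fun h => hne' (Subgroup.card_eq_one.1 h)
      have h8 := Nat.card_pos (α := A')
      omega
    refine ha1 (D.fpf a ha (eq_of_card_two h6 (D.nA' a ha) (fun h => ?_) ha ha1))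
    apply ha1
    rwa [conj_eq_one_iff] at h
  rw [hA', card_bot] at h5
  have hA2 : Nat.card A = 2 := by omega
  have hCA : C = A := Subgroup.eq_of_le_of_card_ge D.CA (by rw [hA2, D.card, pow_one])
  obtain ⟨⟨a, ha⟩, ha1'⟩ := Subgroup.ne_bot_iff_exists_ne_one.1 q.ne
  have ha1 : a ≠ 1 := fun h => ha1' (Subtype.ext h)
  have haγ : a * γ = γ * a := D.comm a (hCA ▸ ha)
  have hTa : ∀ s ∈ (TH : Subgroup H), s * a = a * s := by
    intro s hs
    have h6 : s * a * s⁻¹ = a := eq_of_card_two hA2 ((mem_normalizer_iff.1 (q.norm hs) a).1 ha)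
      (fun h => ha1 (by rwa [conj_eq_one_iff] at h)) ha ha1
    exact mul_inv_eq_iff_eq_mul.1 h6
  have haK : a ∈ K := mem_of_central f.cent Q hF hTa
  have haa : a * a = 1 := q.sq a ha
  by_cases h11 : 11 ≤ Nat.card F
  · refine Eq.ModP.false_of Q hW hF h11 hne ?_
    intro t ht htt ht1
    obtain ⟨g, hg⟩ := conj_inv_hom Q.π Q.two Q.surj Q.ker (t := (⟨a, haK⟩ : K)) (u := ⟨t, ht⟩)
      (fun h => ha1 (congrArg Subtype.val h)) (Subtype.ext haa) (fun h => ht1 (congrArg Subtype.val h)) (Subtype.ext htt)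
    have hg' : (g : H) * a * (g : H)⁻¹ = t := congrArg Subtype.val hg
    rw [← hg', index_fx_conj]
    exact (hidx a ha).trans (by norm_num)
  · have h7' : Nat.card F = 7 := by
      have h8 : Nat.card F ≤ 10 := by omega
      interval_cases h : Nat.card F
      · rfl
      · norm_num at hF
      · norm_num at hF
      · norm_num at hF
    obtain ⟨m, hm⟩ := Small.exists_three D.γ1 D.γ3
    have h8 : (⟨γ ^ m, pow_mem D.γK m⟩ : K) = 1 := by
      refine seven Q h7' (t := ⟨a, haK⟩) (Subtype.ext haa) (fun h => ha1 (congrArg Subtype.val h)) ?_ ?_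
      · apply Subtype.ext
        show γ ^ m * γ ^ m * γ ^ m = 1
        have h10 : (γ ^ m) ^ 3 = 1 := by rw [← hm, pow_orderOf_eq_one]
        rw [← pow_two, ← pow_succ]
        exact h10
      · apply Subtype.ext
        exact ((Commute.pow_right (show Commute a γ from haγ) m).eq).symm
    have h9 : γ ^ m = 1 := congrArg Subtype.val h8
    rw [h9, orderOf_one] at hm
    norm_num at hm

/-- the same for an isomorphism -/
theorem of_equiv (f : Fr S R T N P π TH A K d) {F : Type*} [Field F] [Fintype F] (hF : (Fintype.card F).Prime)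
    (h7 : 7 ≤ Fintype.card F) (e : K ≃* Matrix.ProjectiveSpecialLinearGroup (Fin 2) F) : False := by
  have hodd : Odd (Fintype.card F) := hF.odd_of_ne_two (by omega)
  rw [← Nat.card_eq_fintype_card] at hF h7
  exact false_of f (Cfsg.Agent.GH.L2Aut.Rep.ofEquiv (Cfsg.Agent.GH.L2Aut.two_ne_zero_of_odd hodd) e) hF h7

end Cfsg.Agent.OddCyclic.EmpKill.PslP
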