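import Mathlib
import Cfsg.Agent.OddCyclic.EmpKill.MainOf
import Cfsg.Agent.OddCyclic.EmpKill.PslP

/-!
# (Empty), kills (3.4), (3.5): lines with a common point commute
-/

set_option autoImplicit false
set_option linter.unusedSectionVars false

namespace Cfsg.Agent.OddCyclic.EmpKill.Main

open Subgroup Cfsg Cfsg.Agent.ZN Cfsg.Agent.ZN.ChoiceBase Cfsg.Agent.ZN.ChoiceSit
open Cfsg.Agent.OddCyclic.EmpFrame Cfsg.Agent.OddCyclic.EmpA
open Cfsg.Agent.MinSimple.EmptySix
open Cfsg.Agent.OddCyclic.KZeroCongr (KS)

universe u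

variable {G : Type u} [Group G] [Finite G] {S : Sylow 2 G} {R T P : Subgroup G} {k : G}

/-- there is no configuration -/
theorem false_of (c : Conf S R T) (ks : KS G) : False :=
  main_of c ks fun f _ _ _ Q hF h7 => PslP.false_of f Q hF h7

theorem main (_h : ENS S) (ks : KS G) (_nff : NFF (vv (S : Subgroup G))) (m : Mini S R T P) (_w : Wit S P k) : False :=
  false_of m.toConf ks

/-- (*) : lines with a common point commute -/
theorem star (h : ENS S) (ks : KS G) (nff : NFF (vv (S : Subgroup G))) : EmpA.Star (S : Subgroup G) := by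
  by_contra hcon
  obtain ⟨R, T, c⟩ := exists_conf h nff hcon
  exact false_of c ks

end Cfsg.Agent.OddCyclic.EmpKill.Main
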